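import Cfsg.Agent.GLCusp.Degree

/-!
# Block decompositions of the coordinates, the Levi factor and the parabolic subgroup
-/

set_option autoImplicit false
set_option linter.unusedSectionVars false

namespace CfsgLib.GLCusp

open Matrix
open scoped MatrixGroups ComplexConjugate

universe u

/-- A decomposition of the coordinates into consecutive nonempty blocks. -/
structure Blocks (n : ℕ) where
  k : ℕ
  m : Fin k → ℕ
  pos : ∀ a, 0 < m a
  E : ((a : Fin k) × Fin (m a)) ≃ Fin n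
  ord : ∀ a b x y, a < b → E ⟨a, x⟩ < E ⟨b, y⟩
  inn : ∀ a (x y : Fin (m a)), x < y → E ⟨a, x⟩ < E ⟨a, y⟩

variable {n : ℕ}

namespace Blocks

variable (B : Blocks n)

/-- The block of a coordinate. -/
def lab (i : Fin n) : Fin B.k := (B.E.symm i).1

theorem lab_E (a : Fin B.k) (x : Fin (B.m a)) : B.lab (B.E ⟨a, x⟩) = a := by
  simp [lab]

theorem exists_E (i : Fin n) : ∃ a x, B.E ⟨a, x⟩ = i :=
  ⟨(B.E.symm i).1, (B.E.symm i).2, by simp⟩

theorem exists_E_of_lab {i : Fin n} {a : Fin B.k} (h : B.lab i = a) : ∃ x, B.E ⟨a, x⟩ = i := by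
  subst h
  exact ⟨(B.E.symm i).2, by simp [lab]⟩

theorem E_injective (a : Fin B.k) : Function.Injective fun x : Fin (B.m a) => B.E ⟨a, x⟩ :=
  fun _ _ h => sigma_mk_injective (β := fun a => Fin (B.m a)) (B.E.injective h)

theorem lab_mono : Monotone B.lab := by
  intro i j hij
  obtain ⟨a, x, rfl⟩ := B.exists_E i
  obtain ⟨b, y, rfl⟩ := B.exists_E j
  rw [B.lab_E, B.lab_E]
  exact not_lt.1 fun h => not_lt.2 hij (B.ord b a y x h)

theorem E_lt_iff (a : Fin B.k) (x y : Fin (B.m a)) : B.E ⟨a, x⟩ < B.E ⟨a, y⟩ ↔ x < y := by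
  refine ⟨fun h => ?_, B.inn a x y⟩
  rcases lt_trichotomy x y with h' | h' | h'
  · exact h'
  · exact absurd (h' ▸ h) (lt_irrefl _)
  · exact absurd (B.inn a y x h') (lt_asymm h)

/-- Neighbours in a block are neighbours among all coordinates. -/
theorem succ_iff (a : Fin B.k) (x y : Fin (B.m a)) :
    (B.E ⟨a, y⟩).val = (B.E ⟨a, x⟩).val + 1 ↔ y.val = x.val + 1 := by
  constructor
  · intro h
    have hxy : x < y := (B.E_lt_iff a x y).1 (by rw [Fin.lt_def]; omega)
    by_contra hne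
    have hxy' := hxy
    rw [Fin.lt_def] at hxy'
    obtain ⟨z, hz⟩ : ∃ z : Fin (B.m a), z.val = x.val + 1 := ⟨⟨x.val + 1, by have := y.isLt; omega⟩, rfl⟩
    have h1 := B.inn a x z (by rw [Fin.lt_def]; omega)
    have h2 := B.inn a z y (by rw [Fin.lt_def]; omega)
    rw [Fin.lt_def] at h1 h2
    omega
  · intro h
    have h1 := B.inn a x y (by rw [Fin.lt_def]; omega)
    rw [Fin.lt_def] at h1
    by_contra hne
    obtain ⟨i, hi⟩ : ∃ i : Fin n, i.val = (B.E ⟨a, x⟩).val + 1 :=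
      ⟨⟨(B.E ⟨a, x⟩).val + 1, by have := (B.E ⟨a, y⟩).isLt; omega⟩, rfl⟩
    have hl1 := B.lab_mono (show B.E ⟨a, x⟩ ≤ i by rw [Fin.le_def]; omega)
    have hl2 := B.lab_mono (show i ≤ B.E ⟨a, y⟩ by rw [Fin.le_def]; omega)
    rw [B.lab_E] at hl1 hl2
    obtain ⟨z, rfl⟩ := B.exists_E_of_lab (le_antisymm hl2 hl1)
    have h3 := (B.E_lt_iff a x z).1 (by rw [Fin.lt_def]; omega)
    have h4 := (B.E_lt_iff a z y).1 (by rw [Fin.lt_def]; omega)
    rw [Fin.lt_def] at h3 h4
    omega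

/-- The Levi factor. -/
abbrev Levi (F : Type u) [Field F] : Type u := (a : Fin B.k) → GL (Fin (B.m a)) F

variable {F : Type u} [Field F] [Fintype F] [DecidableEq F]

/-- The parabolic subgroup. -/
abbrev P (F : Type u) [Field F] : Subgroup (GL (Fin n) F) := parab F B.lab

/-- Its unipotent radical. -/
abbrev U (F : Type u) [Field F] [Finite F] : Subgroup (GL (Fin n) F) := rad F B.lab

theorem upperTriangular_le : Cfsg.upperTriangularGL n F ≤ B.P F := fun g hg =>
  mem_parab.2 fun i j h => hg (not_le.1 fun hij : i ≤ j => not_le.2 h (B.lab_mono hij))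

theorem unip_le : unip F n ≤ B.P F := fun _ hg =>
  mem_parab.2 fun _ _ h => unip_lower hg (not_le.1 fun hij => not_le.2 h (B.lab_mono hij))

theorem perm_mem {π : Equiv.Perm (Fin n)} (h : ∀ i, B.lab (π i) = B.lab i) :
    CfsgLib.GLn.permGL F π ∈ B.P F := mem_parab.2 fun i j hij => by
  rw [CfsgLib.GLn.permGL_apply, if_neg]
  rintro rfl
  rw [h] at hij
  exact lt_irrefl _ hij

/-- A diagonal block. -/
def sub (a : Fin B.k) (g : Matrix (Fin n) (Fin n) F) : Matrix (Fin (B.m a)) (Fin (B.m a)) F :=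
  g.submatrix (fun x => B.E ⟨a, x⟩) fun x => B.E ⟨a, x⟩

theorem sub_one (a : Fin B.k) : B.sub a (1 : Matrix (Fin n) (Fin n) F) = 1 := by
  ext x y
  simp [sub, Matrix.one_apply]

theorem sub_mul (a : Fin B.k) {g h : Matrix (Fin n) (Fin n) F} (hg : g.BlockTriangular B.lab)
    (hh : h.BlockTriangular B.lab) : B.sub a (g * h) = B.sub a g * B.sub a h := by
  ext x y
  rw [sub, Matrix.submatrix_apply, Matrix.mul_apply, Matrix.mul_apply]
  rw [← B.E.sum_comp, Fintype.sum_sigma, Finset.sum_eq_single a]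
  · rfl
  · intro b _ hb
    refine Finset.sum_eq_zero fun z _ => ?_
    rcases lt_or_gt_of_ne hb with h' | h'
    · rw [hg (show B.lab (B.E ⟨b, z⟩) < B.lab (B.E ⟨a, x⟩) by rwa [B.lab_E, B.lab_E]), zero_mul]
    · rw [hh (show B.lab (B.E ⟨a, y⟩) < B.lab (B.E ⟨b, z⟩) by rwa [B.lab_E, B.lab_E]), mul_zero]
  · simp

/-- The projection to a block, on the parabolic subgroup. -/
def blk (a : Fin B.k) : B.P F →* GL (Fin (B.m a)) F where
  toFun g := ⟨B.sub a (g : GL (Fin n) F), B.sub a ((g⁻¹ : B.P F) : GL (Fin n) F),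
    by rw [← B.sub_mul a g.2 (g⁻¹).2, ← Units.val_mul, ← Subgroup.coe_mul, mul_inv_cancel,
      Subgroup.coe_one, Units.val_one, sub_one],
    by rw [← B.sub_mul a (g⁻¹).2 g.2, ← Units.val_mul, ← Subgroup.coe_mul, inv_mul_cancel,
      Subgroup.coe_one, Units.val_one, sub_one]⟩
  map_one' := Units.ext (B.sub_one a)
  map_mul' g h := Units.ext (B.sub_mul a g.2 h.2)

theorem blk_apply (a : Fin B.k) (g : B.P F) (x y : Fin (B.m a)) :
    B.blk a g x y = (g : GL (Fin n) F) (B.E ⟨a, x⟩) (B.E ⟨a, y⟩) := rfl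

/-- The projection onto the Levi factor. -/
def proj : B.P F →* B.Levi F where
  toFun g a := B.blk a g
  map_one' := funext fun a => map_one (B.blk a)
  map_mul' g h := funext fun a => map_mul (B.blk a) g h

theorem proj_apply (g : B.P F) (a : Fin B.k) : B.proj g a = B.blk a g := rfl

theorem mem_U_iff {g : GL (Fin n) F} :
    g ∈ B.U F ↔ ∃ h : g ∈ B.P F, B.proj ⟨g, h⟩ = 1 := by
  constructor
  · intro hg
    refine ⟨rad_le_parab _ hg, funext fun a => Units.ext (Matrix.ext fun x y => ?_)⟩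
    rw [proj_apply, blk_apply, Pi.one_apply, Units.val_one]
    rw [mem_rad.1 hg _ _ (by rw [B.lab_E, B.lab_E])]
    simp [Matrix.one_apply]
  · rintro ⟨h, hp⟩
    refine mem_rad.2 fun i j hij => ?_
    obtain ⟨a, x, rfl⟩ := B.exists_E i
    obtain ⟨b, y, rfl⟩ := B.exists_E j
    rcases lt_or_eq_of_le hij with hlt | heq
    · rw [mem_parab.1 h _ _ hlt, Matrix.one_apply_ne fun e => (ne_of_gt hlt) (by rw [e])]
    · rw [B.lab_E, B.lab_E] at heq
      subst heq
      have := congrArg (fun l : B.Levi F => (l b : Matrix (Fin (B.m b)) (Fin (B.m b)) F) x y) hp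
      simp only [proj_apply, blk_apply, Pi.one_apply, Units.val_one] at this
      rw [this]
      simp [Matrix.one_apply]

theorem sub_secMat (l : (a : Fin B.k) → Matrix (Fin (B.m a)) (Fin (B.m a)) F) (a b : Fin B.k)
    (x : Fin (B.m a)) (y : Fin (B.m b)) :
    (Matrix.blockDiagonal' l).submatrix B.E.symm B.E.symm (B.E ⟨a, x⟩) (B.E ⟨b, y⟩) =
      Matrix.blockDiagonal' l ⟨a, x⟩ ⟨b, y⟩ := by
  simp

/-- The block diagonal section. -/
def sec : B.Levi F →* GL (Fin n) F :=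
  MonoidHom.mk'
    (fun l => ⟨(Matrix.blockDiagonal' fun a => (l a : Matrix (Fin (B.m a)) (Fin (B.m a)) F)).submatrix
        B.E.symm B.E.symm,
      (Matrix.blockDiagonal' fun a => ((l a)⁻¹ : GL (Fin (B.m a)) F).val).submatrix B.E.symm B.E.symm,
      by
        rw [Matrix.submatrix_mul_equiv, ← Matrix.blockDiagonal'_mul]
        simp only [← Units.val_mul, mul_inv_cancel, Units.val_one]
        rw [show (fun _ : Fin B.k => (1 : Matrix _ _ F)) = (1 : (a : Fin B.k) →
          Matrix (Fin (B.m a)) (Fin (B.m a)) F) from rfl, Matrix.blockDiagonal'_one,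
          Matrix.submatrix_one_equiv],
      by
        rw [Matrix.submatrix_mul_equiv, ← Matrix.blockDiagonal'_mul]
        simp only [← Units.val_mul, inv_mul_cancel, Units.val_one]
        rw [show (fun _ : Fin B.k => (1 : Matrix _ _ F)) = (1 : (a : Fin B.k) →
          Matrix (Fin (B.m a)) (Fin (B.m a)) F) from rfl, Matrix.blockDiagonal'_one,
          Matrix.submatrix_one_equiv]⟩)
    fun l l' => Units.ext (by
      show (Matrix.blockDiagonal' fun a => (((l * l') a : GL (Fin (B.m a)) F) :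
          Matrix (Fin (B.m a)) (Fin (B.m a)) F)).submatrix B.E.symm B.E.symm =
        (Matrix.blockDiagonal' fun a => (l a : Matrix (Fin (B.m a)) (Fin (B.m a)) F)).submatrix B.E.symm B.E.symm *
          (Matrix.blockDiagonal' fun a => (l' a : Matrix (Fin (B.m a)) (Fin (B.m a)) F)).submatrix B.E.symm B.E.symm
      rw [Matrix.submatrix_mul_equiv, ← Matrix.blockDiagonal'_mul]
      rfl)

theorem sec_apply_same (l : B.Levi F) (a : Fin B.k) (x y : Fin (B.m a)) :
    B.sec l (B.E ⟨a, x⟩) (B.E ⟨a, y⟩) = l a x y :=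
  (B.sub_secMat (fun a => (l a : Matrix (Fin (B.m a)) (Fin (B.m a)) F)) a a x y).trans
    (Matrix.blockDiagonal'_apply_eq (fun a => (l a : Matrix (Fin (B.m a)) (Fin (B.m a)) F)) a x y)

theorem sec_apply_ne (l : B.Levi F) {i j : Fin n} (h : B.lab i ≠ B.lab j) : B.sec l i j = 0 := by
  obtain ⟨a, x, rfl⟩ := B.exists_E i
  obtain ⟨b, y, rfl⟩ := B.exists_E j
  rw [B.lab_E, B.lab_E] at h
  exact (B.sub_secMat (fun a => (l a : Matrix (Fin (B.m a)) (Fin (B.m a)) F)) a b x y).trans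
    (Matrix.blockDiagonal'_apply_ne (fun a => (l a : Matrix (Fin (B.m a)) (Fin (B.m a)) F)) x y h)

theorem sec_mem (l : B.Levi F) : B.sec l ∈ B.P F :=
  mem_parab.2 fun _ _ h => B.sec_apply_ne l h.ne'

theorem proj_sec (l : B.Levi F) : B.proj ⟨B.sec l, B.sec_mem l⟩ = l :=
  funext fun a => Units.ext (Matrix.ext fun x y => B.sec_apply_same l a x y)

theorem mul_sec_inv_mem {g : GL (Fin n) F} (hg : g ∈ B.P F) :
    g * (B.sec (B.proj ⟨g, hg⟩))⁻¹ ∈ B.U F := by
  refine B.mem_U_iff.2 ⟨mul_mem hg (inv_mem (B.sec_mem _)), ?_⟩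
  have : (⟨g * (B.sec (B.proj ⟨g, hg⟩))⁻¹, mul_mem hg (inv_mem (B.sec_mem _))⟩ : B.P F) =
      ⟨g, hg⟩ * (⟨_, B.sec_mem (B.proj ⟨g, hg⟩)⟩ : B.P F)⁻¹ := rfl
  rw [this, map_mul, map_inv, B.proj_sec, mul_inv_cancel]

theorem sec_conj_mem (l : B.Levi F) {u : GL (Fin n) F} (hu : u ∈ B.U F) :
    B.sec l * u * (B.sec l)⁻¹ ∈ B.U F := by
  obtain ⟨h, hp⟩ := B.mem_U_iff.1 hu
  refine B.mem_U_iff.2 ⟨mul_mem (mul_mem (B.sec_mem l) h) (inv_mem (B.sec_mem l)), ?_⟩
  have : (⟨B.sec l * u * (B.sec l)⁻¹, mul_mem (mul_mem (B.sec_mem l) h) (inv_mem (B.sec_mem l))⟩ : B.P F) =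
      ⟨_, B.sec_mem l⟩ * ⟨u, h⟩ * (⟨_, B.sec_mem l⟩ : B.P F)⁻¹ := rfl
  rw [this, map_mul, map_mul, map_inv, B.proj_sec, hp, mul_one, mul_inv_cancel]

open scoped Classical in
/-- Summing over a subgroup between the radical and the parabolic. -/
theorem sumOn_split {Q : Subgroup (GL (Fin n) F)} (hU : B.U F ≤ Q) (hP : Q ≤ B.P F)
    (f : GL (Fin n) F → ℂ) :
    sumOn Q f = ∑ l ∈ Finset.univ.filter (fun l : B.Levi F => B.sec l ∈ Q),
      sumOn (B.U F) fun u => f (u * B.sec l) := by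
  haveI := Fintype.ofFinite Q
  simp only [sumOn]
  rw [← Finset.sum_product']
  refine (Finset.sum_bij' (fun (p : B.Levi F × GL (Fin n) F) _ => p.2 * B.sec p.1)
    (fun g hg => (B.proj ⟨g, hP (Finset.mem_filter.1 hg).2⟩,
      g * (B.sec (B.proj ⟨g, hP (Finset.mem_filter.1 hg).2⟩))⁻¹)) ?_ ?_ ?_ ?_ ?_).symm
  · intro p hp
    simp only [Finset.mem_product, Finset.mem_filter, Finset.mem_univ, true_and] at hp ⊢
    exact mul_mem (hU hp.2) hp.1
  · intro g hg
    simp only [Finset.mem_product, Finset.mem_filter, Finset.mem_univ, true_and] at hg ⊢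
    have hu := B.mul_sec_inv_mem (hP hg)
    refine ⟨?_, hu⟩
    have := mul_mem (inv_mem (hU hu)) hg
    simpa [mul_assoc] using this
  · intro p hp
    simp only [Finset.mem_product, Finset.mem_filter, Finset.mem_univ, true_and] at hp
    obtain ⟨h, hp'⟩ := B.mem_U_iff.1 hp.2
    have e : B.proj ⟨p.2 * B.sec p.1, mul_mem h (B.sec_mem _)⟩ = p.1 := by
      have : (⟨p.2 * B.sec p.1, mul_mem h (B.sec_mem _)⟩ : B.P F) = ⟨p.2, h⟩ * ⟨_, B.sec_mem p.1⟩ := rfl
      rw [this, map_mul, hp', B.proj_sec, one_mul]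
    refine Prod.ext e ?_
    simp only [e, mul_inv_cancel_right]
  · intro g hg
    simp
  · intro p hp
    rfl

theorem card_P : (Nat.card (B.P F) : ℂ) = (Fintype.card (B.Levi F) : ℂ) * (Nat.card (B.U F) : ℂ) := by
  classical
  have h := B.sumOn_split (F := F) (Q := B.P F) (rad_le_parab _) le_rfl fun _ => 1
  simp only [sumOn_const, mul_one, Finset.sum_const, nsmul_eq_mul] at h
  rw [h, Finset.filter_true_of_mem fun l _ => B.sec_mem l, Finset.card_univ]

end Blocks

/-- The blocks of a composition. -/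
def Blocks.ofSizes {k : ℕ} (m : Fin k → ℕ) (hpos : ∀ a, 0 < m a) (h : ∑ a, m a = n) : Blocks n where
  k := k
  m := m
  pos := hpos
  E := finSigmaFinEquiv.trans (finCongr h)
  ord a b x y hab := by
    rw [Fin.lt_def]
    simp only [Equiv.trans_apply, finCongr_apply, Fin.val_cast, finSigmaFinEquiv_apply]
    have e : ∀ c : Fin k, ∑ i : Fin c.val, m (Fin.castLE c.isLt.le i) = ∑ i ∈ Finset.Iio c, m i := fun c => by
      refine Finset.sum_bij (fun i _ => Fin.castLE c.isLt.le i) (fun i _ => ?_) (fun i _ j _ hij => ?_)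
        (fun j hj => ?_) fun i _ => rfl
      · simp [Fin.lt_def]
      · exact Fin.castLE_injective _ hij
      · exact ⟨⟨j.val, Fin.lt_def.1 (Finset.mem_Iio.1 hj)⟩, Finset.mem_univ _, Fin.ext rfl⟩
    rw [e, e]
    have hsub : Finset.Iic a ⊆ Finset.Iio b := fun i hi =>
      Finset.mem_Iio.2 (lt_of_le_of_lt (Finset.mem_Iic.1 hi) hab)
    have h1 := Finset.sum_le_sum_of_subset (f := m) hsub
    rw [← Finset.Iio_insert a, Finset.sum_insert (by simp)] at h1
    have := x.isLt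
    omega
  inn a x y hxy := by
    rw [Fin.lt_def]
    simp only [Equiv.trans_apply, finCongr_apply, Fin.val_cast, finSigmaFinEquiv_apply]
    rw [Fin.lt_def] at hxy
    omega

/-- Every monotone labelling comes from a block decomposition. -/
theorem Blocks.exists_of_monotone {f : Fin n → ℕ} (hf : Monotone f) :
    ∃ B : Blocks n, ∀ i j, B.lab i ≤ B.lab j ↔ f i ≤ f j := by
  classical
  obtain ⟨S, hS⟩ : ∃ S, S = Finset.univ.image f := ⟨_, rfl⟩
  obtain ⟨o, ho⟩ : ∃ o : Fin S.card ≃o S, o = S.orderIsoOfFin rfl := ⟨_, rfl⟩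
  obtain ⟨g, hg⟩ : ∃ g : Fin n → Fin S.card, g = fun i => o.symm ⟨f i, hS ▸ Finset.mem_image_of_mem f (Finset.mem_univ i)⟩ :=
    ⟨_, rfl⟩
  have hle : ∀ i j, g i ≤ g j ↔ f i ≤ f j := fun i j => by
    simp only [hg, OrderIso.le_iff_le, Subtype.mk_le_mk]
  obtain ⟨fib, hfib⟩ : ∃ fib : Fin S.card → Finset (Fin n), fib = fun a => Finset.univ.filter fun i => g i = a :=
    ⟨_, rfl⟩
  have hmem : ∀ a i, i ∈ fib a ↔ g i = a := fun a i => by simp [hfib]
  obtain ⟨φ, hφ⟩ : ∃ φ : ((a : Fin S.card) × Fin (fib a).card) → Fin n,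
      φ = fun p => ((fib p.1).orderIsoOfFin rfl p.2 : Fin n) := ⟨_, rfl⟩
  have hgφ : ∀ p, g (φ p) = p.1 := fun p => by
    rw [hφ, ← hmem]
    exact ((fib p.1).orderIsoOfFin rfl p.2).2
  have hbij : Function.Bijective φ := by
    constructor
    · rintro ⟨a, x⟩ ⟨b, y⟩ h
      have hab : a = b := ((hgφ ⟨a, x⟩).symm.trans (congrArg g h)).trans (hgφ ⟨b, y⟩)
      subst hab
      simp only [hφ] at h
      rw [((fib a).orderIsoOfFin rfl).injective (Subtype.ext h)]
    · intro i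
      refine ⟨⟨g i, ((fib (g i)).orderIsoOfFin rfl).symm ⟨i, (hmem _ _).2 rfl⟩⟩, ?_⟩
      simp only [hφ, OrderIso.apply_symm_apply]
  refine ⟨{ k := S.card
            m := fun a => (fib a).card
            pos := fun a => ?_
            E := Equiv.ofBijective φ hbij
            ord := fun a b x y hab => ?_
            inn := fun a x y hxy => ?_ }, fun i j => ?_⟩
  · obtain ⟨i, hi⟩ : ∃ i, f i = (o a : ℕ) := by
      have := (o a).2
      simp only [hS, Finset.mem_image, Finset.mem_univ, true_and] at this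
      exact this
    refine Finset.card_pos.2 ⟨i, (hmem a i).2 ?_⟩
    rw [hg]
    exact (OrderIso.symm_apply_eq _).2 (Subtype.ext hi)
  · by_contra hle'
    simp only [Equiv.ofBijective_apply, not_lt] at hle'
    have := (hle _ _).2 (hf hle')
    rw [hgφ, hgφ] at this
    exact not_le.2 hab this
  · simp only [Equiv.ofBijective_apply, hφ]
    exact ((fib a).orderIsoOfFin rfl).lt_iff_lt.2 hxy
  · rw [← hle i j]
    have hl : ∀ i, ((Equiv.ofBijective φ hbij).symm i).1 = g i := fun i => by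
      obtain ⟨p, rfl⟩ := hbij.2 i
      rw [Equiv.ofBijective_symm_apply_apply, hgφ]
    simp only [Blocks.lab]
    rw [hl, hl]

end CfsgLib.GLCusp
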