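import Cfsg.Agent.GLCusp.Support
import Cfsg.Agent.GLClass.PolyCount
import Mathlib.FieldTheory.Finite.Extension

/-!
# The number of cuspidal irreducible characters
-/

set_option autoImplicit false
set_option linter.unusedSectionVars false

namespace CfsgLib.GLCusp

open scoped MatrixGroups ComplexConjugate Polynomial
open Polynomial (X C)

universe u v w

/-! ### Weighted multisets -/

/-- Multisets of weighted items of total weight `n`. -/
abbrev MS (A : ℕ → Type v) (n : ℕ) : Type v :=
  {S : Multiset ((d : ℕ) × A d) // (S.map Sigma.fst).sum = n}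

/-- The same, with all items lighter than `n`. -/
abbrev MSlt (A : ℕ → Type v) (n : ℕ) : Type v := {S : MS A n // ∀ p ∈ S.1, p.1 < n}

theorem card_MS_eq {A : ℕ → Type v} (hpos : ∀ d, A d → 0 < d) (n : ℕ) (hn : 0 < n) [Finite (MS A n)]
    [Finite (A n)] : Nat.card (MS A n) = Nat.card (A n) + Nat.card (MSlt A n) := by
  rw [← Nat.card_sum]
  refine (Nat.card_eq_of_bijective (Sum.elim (fun a => ⟨{⟨n, a⟩}, by simp⟩) Subtype.val) ⟨?_, ?_⟩).symm
  · rintro (a | S) (b | T) h
    · have h' := congrArg Subtype.val h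
      simp only [Sum.elim_inl, Multiset.singleton_inj, Sigma.mk.injEq, heq_eq_eq, true_and] at h'
      rw [h']
    · exfalso
      have h' := congrArg Subtype.val h
      simp only [Sum.elim_inl, Sum.elim_inr] at h'
      exact lt_irrefl n (T.2 ⟨n, a⟩ (by rw [← h']; exact Multiset.mem_singleton_self _))
    · exfalso
      have h' := congrArg Subtype.val h
      simp only [Sum.elim_inl, Sum.elim_inr] at h'
      exact lt_irrefl n (S.2 ⟨n, b⟩ (by rw [h']; exact Multiset.mem_singleton_self _))
    · rw [Subtype.ext h]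
  · rintro ⟨S, hS⟩
    by_cases h : ∀ p ∈ S, p.1 < n
    · exact ⟨Sum.inr ⟨⟨S, hS⟩, h⟩, rfl⟩
    · push Not at h
      obtain ⟨⟨d, a⟩, hp, hd⟩ := h
      obtain ⟨R, rfl⟩ := Multiset.exists_cons_of_mem hp
      simp only [Multiset.map_cons, Multiset.sum_cons] at hS hd
      obtain rfl : d = n := by omega
      have hR : R = 0 := by
        refine Multiset.eq_zero_of_forall_notMem fun q hq => ?_
        have h1 := Multiset.le_sum_of_mem (Multiset.mem_map_of_mem Sigma.fst hq)
        have h2 := hpos q.1 q.2
        omega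
      subst hR
      exact ⟨Sum.inl a, rfl⟩

theorem pmap_pmap_cancel {α : Type*} {β : Type*} {P : α → Prop} {Q : β → Prop} (f : ∀ a, P a → β)
    (g : ∀ b, Q b → α) (hg : ∀ a ha h, g (f a ha) h = a) (s : Multiset α) (h : ∀ a ∈ s, P a)
    (h' : ∀ b ∈ s.pmap f h, Q b) : (s.pmap f h).pmap g h' = s := by
  induction s using Multiset.induction with
  | empty => simp
  | cons a s ih =>
    simp only [Multiset.pmap_cons] at h' ⊢
    rw [hg, ih]

theorem sum_fst_pmap {A : ℕ → Type v} {B : ℕ → Type w} {n : ℕ} (e : ∀ d < n, A d → B d)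
    (s : Multiset ((d : ℕ) × A d)) (h : ∀ p ∈ s, p.1 < n) :
    ((s.pmap (fun p hp => (⟨p.1, e p.1 hp p.2⟩ : (d : ℕ) × B d)) h).map Sigma.fst).sum =
      (s.map Sigma.fst).sum := by
  rw [Multiset.map_pmap, Multiset.pmap_eq_map]

theorem card_MSlt_congr {A : ℕ → Type v} {B : ℕ → Type w} (n : ℕ) (e : ∀ d < n, A d ≃ B d) :
    Nat.card (MSlt A n) = Nat.card (MSlt B n) := by
  refine Nat.card_congr
    { toFun := fun S => ⟨⟨S.1.1.pmap (fun p hp => (⟨p.1, e p.1 hp p.2⟩ : (d : ℕ) × B d)) S.2,
        (sum_fst_pmap (fun d hd => e d hd) S.1.1 S.2).trans S.1.2⟩, fun p hp => by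
          obtain ⟨q, hq, rfl⟩ := Multiset.mem_pmap.1 hp
          exact S.2 q hq⟩
      invFun := fun S => ⟨⟨S.1.1.pmap (fun p hp => (⟨p.1, (e p.1 hp).symm p.2⟩ : (d : ℕ) × A d)) S.2,
        (sum_fst_pmap (fun d hd => (e d hd).symm) S.1.1 S.2).trans S.1.2⟩, fun p hp => by
          obtain ⟨q, hq, rfl⟩ := Multiset.mem_pmap.1 hp
          exact S.2 q hq⟩
      left_inv := fun S => Subtype.ext (Subtype.ext (pmap_pmap_cancel _ _ (fun a _ _ => by simp) _ _ _))
      right_inv := fun S => Subtype.ext (Subtype.ext (pmap_pmap_cancel _ _ (fun a _ _ => by simp) _ _ _)) }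

theorem exists_equiv_of_map_eq {α β γ : Type*} [Fintype α] [Fintype β] {f : α → γ} {g : β → γ}
    (h : (Finset.univ : Finset α).val.map f = (Finset.univ : Finset β).val.map g) :
    ∃ e : α ≃ β, g ∘ e = f := by
  classical
  have hc : ∀ c, Fintype.card {a // f a = c} = Fintype.card {b // g b = c} := fun c => by
    have h1 := congrArg (Multiset.count c) h
    rw [Multiset.count_map, Multiset.count_map] at h1
    rw [Fintype.card_subtype, Fintype.card_subtype, Finset.card_def, Finset.card_def, Finset.filter_val,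
      Finset.filter_val]
    convert h1 using 3 <;> exact eq_comm
  refine ⟨Equiv.ofFiberEquiv (f := f) (g := g) fun c => Fintype.equivOfCardEq (hc c), funext fun a => ?_⟩
  exact Equiv.ofFiberEquiv_map _ a

/-! ### Generic characters and cuspidal multisets -/

variable {F : Type u} [Field F] [Fintype F] [DecidableEq F]

/-- Cuspidal irreducible characters of positive rank. -/
abbrev CuspIrr (F : Type u) [Field F] [Fintype F] [DecidableEq F] (d : ℕ) : Type u :=
  {χ : GL (Fin d) F → ℂ // 0 < d ∧ Cfsg.IsIrrCharacter (GL (Fin d) F) χ ∧ Cuspidal χ}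

/-- Forgetting the properties of a piece. -/
def toPiece (p : (d : ℕ) × CuspIrr F d) : Piece F := ⟨p.1, p.2.1⟩

theorem toPiece_injective : Function.Injective (toPiece (F := F)) := by
  rintro ⟨d, χ⟩ ⟨d', χ'⟩ h
  simp only [toPiece, Sigma.mk.injEq] at h
  obtain ⟨rfl, h⟩ := h
  simp only [heq_eq_eq] at h
  rw [Subtype.ext h]

variable {n : ℕ}

theorem exists_blocks (S : MS (CuspIrr F) n) :
    ∃ (B : Blocks n) (σ : B.Data F), Blocks.Good σ ∧
      (Finset.univ : Finset (Fin B.k)).val.map (Blocks.key σ) = S.1.map toPiece := by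
  obtain ⟨L, hL⟩ : ∃ L : List ((d : ℕ) × CuspIrr F d), (L : Multiset ((d : ℕ) × CuspIrr F d)) = S.1 :=
    ⟨S.1.toList, Multiset.coe_toList _⟩
  have hsum : ∑ i : Fin L.length, (L[i.val]).1 = n := by
    rw [← List.sum_ofFn, List.ofFn_getElem_eq_map, ← Multiset.sum_coe, ← Multiset.map_coe, hL, S.2]
  refine ⟨Blocks.ofSizes (fun i : Fin L.length => (L[i.val]).1) (fun i => (L[i.val]).2.2.1) hsum,
    fun i => (L[i.val]).2.1, fun i => (L[i.val]).2.2.2, ?_⟩
  rw [← hL, Multiset.map_coe]
  show ((Finset.univ : Finset (Fin L.length)).val.map fun i => toPiece (L[i.val])) = _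
  rw [Fin.univ_val_map, List.ofFn_getElem_eq_map]

/-- The generic constituent attached to a multiset. -/
noncomputable def genOf (S : MS (CuspIrr F) n) : GenIrr F n :=
  Classical.choose (Blocks.existsUnique_generic (exists_blocks S).choose_spec.choose_spec.1)

theorem genOf_bijective : Function.Bijective (genOf (F := F) (n := n)) := by
  classical
  have hspec : ∀ S : MS (CuspIrr F) n, ∃ (B : Blocks n) (σ : B.Data F), Blocks.Good σ ∧
      (Finset.univ : Finset (Fin B.k)).val.map (Blocks.key σ) = S.1.map toPiece ∧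
      Cfsg.classInner (Blocks.ind σ) ((genOf S).1 : GL (Fin n) F → ℂ) ≠ 0 ∧
      ∀ χ : GenIrr F n, Cfsg.classInner (Blocks.ind σ) (χ.1 : GL (Fin n) F → ℂ) ≠ 0 → χ = genOf S :=
    fun S => ⟨_, _, (exists_blocks S).choose_spec.choose_spec.1, (exists_blocks S).choose_spec.choose_spec.2,
      Classical.choose_spec (Blocks.existsUnique_generic (exists_blocks S).choose_spec.choose_spec.1)⟩
  constructor
  · intro S S' h
    obtain ⟨B, σ, hσ, hm, h1, -⟩ := hspec S
    obtain ⟨B', σ', hσ', hm', h1', -⟩ := hspec S'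
    rw [h] at h1
    have hne := CfsgLib.Char.IsCharacter.classInner_ne_zero_of_common hσ.isCharacter_ind
      hσ'.isCharacter_ind (genOf S').1.2 h1 h1'
    rw [Blocks.classInner_ind hσ hσ', Nat.cast_ne_zero] at hne
    obtain ⟨⟨β, hβ⟩⟩ := (Nat.card_ne_zero.1 hne).1
    refine Subtype.ext (Multiset.map_injective toPiece_injective ?_)
    rw [← hm, ← hm', ← hβ]
    conv_rhs => rw [← Finset.map_univ_equiv β, Finset.map_val, Multiset.map_map]
    rfl
  · intro χ
    obtain ⟨B, σ, hσ, hne⟩ := exists_support χ.1.2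
    obtain ⟨f, hf⟩ : ∃ f : Fin B.k → (d : ℕ) × CuspIrr F d,
        f = fun a => ⟨B.m a, ⟨σ a, B.pos a, hσ a⟩⟩ := ⟨_, rfl⟩
    have hsum : (((Finset.univ : Finset (Fin B.k)).val.map f).map Sigma.fst).sum = n := by
      rw [Multiset.map_map, hf]
      show ∑ a, B.m a = n
      have := Fintype.card_congr B.E
      simpa [Fintype.card_sigma] using this
    obtain ⟨S, hS⟩ : ∃ S : MS (CuspIrr F) n, S = ⟨_, hsum⟩ := ⟨_, rfl⟩
    obtain ⟨B', σ', hσ', hm', -, hu⟩ := hspec S
    refine ⟨S, (hu χ ?_).symm⟩
    have hk : (Finset.univ : Finset (Fin B.k)).val.map (Blocks.key σ) =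
        (Finset.univ : Finset (Fin B'.k)).val.map (Blocks.key σ') := by
      rw [hm', hS, Multiset.map_map, hf]
      rfl
    obtain ⟨β, hβ⟩ := exists_equiv_of_map_eq hk
    rw [← Blocks.ind_eq hσ hσ' β hβ]
    intro h0
    refine hne ?_
    rw [← CfsgLib.Char.classInner_conj, h0, map_zero]

theorem finite_MS_cusp : Finite (MS (CuspIrr F) n) := by
  haveI : Finite (Cfsg.IrrCharacter (GL (Fin n) F)) := CfsgLib.Char.finite_irrCharacter _
  exact Finite.of_injective _ genOf_bijective.1

theorem card_MS_cusp {m : ℕ} :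
    Nat.card (MS (CuspIrr F) (m + 1)) = (Fintype.card F - 1) * Fintype.card F ^ m := by
  rw [Nat.card_eq_of_bijective _ genOf_bijective, card_genIrr]

/-! ### Polynomials -/

/-- Monic irreducible polynomials of given degree with nonzero constant term. -/
abbrev IrrPoly (F : Type u) [Field F] (d : ℕ) : Type u :=
  {f : F[X] // f.Monic ∧ Irreducible f ∧ f.natDegree = d ∧ f.coeff 0 ≠ 0}

/-- The product of a multiset of polynomials. -/
noncomputable def prodOf (S : MS (IrrPoly F) n) : CfsgLib.GLClass.GoodPoly F n :=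
  ⟨(S.1.map fun p => p.2.1).prod,
    Polynomial.monic_multiset_prod_of_monic _ _ fun p _ => p.2.2.1, by
      rw [Polynomial.natDegree_multiset_prod_of_monic _ (fun f hf => by
        obtain ⟨p, -, rfl⟩ := Multiset.mem_map.1 hf
        exact p.2.2.1), Multiset.map_map]
      exact (congrArg Multiset.sum (Multiset.map_congr rfl fun p _ => p.2.2.2.2.1)).trans S.2, by
      rw [Polynomial.coeff_zero_multiset_prod]
      refine Multiset.prod_ne_zero fun h0 => ?_
      simp only [Multiset.map_map, Multiset.mem_map, Function.comp_apply] at h0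
      obtain ⟨p, -, hp⟩ := h0
      exact p.2.2.2.2.2 hp⟩

theorem prodOf_bijective : Function.Bijective (prodOf (F := F) (n := n)) := by
  classical
  have hnorm : ∀ (s : Multiset ((d : ℕ) × IrrPoly F d)),
      UniqueFactorizationMonoid.normalizedFactors (s.map fun p => p.2.1).prod = s.map fun p => p.2.1 := by
    intro s
    induction s using Multiset.induction with
    | empty => simp
    | cons p s ih =>
      rw [Multiset.map_cons, Multiset.prod_cons, UniqueFactorizationMonoid.normalizedFactors_mul
        p.2.2.2.1.ne_zero (Polynomial.monic_multiset_prod_of_monic _ _ fun q _ => q.2.2.1).ne_zero, ih,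
        UniqueFactorizationMonoid.normalizedFactors_irreducible p.2.2.2.1, p.2.2.1.normalize_eq_self,
        Multiset.singleton_add]
  constructor
  · intro S S' h
    have h' := congrArg (fun f => UniqueFactorizationMonoid.normalizedFactors f.1) h
    simp only [prodOf, hnorm] at h'
    refine Subtype.ext (Multiset.map_injective ?_ h')
    rintro ⟨d, f⟩ ⟨d', g⟩ he
    simp only at he
    obtain rfl : d = d' := by rw [← f.2.2.2.1, ← g.2.2.2.1, he]
    rw [Subtype.ext he]
  · intro f
    have hf0 : f.1 ≠ 0 := f.2.1.ne_zero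
    obtain ⟨M, hM⟩ : ∃ M, M = UniqueFactorizationMonoid.normalizedFactors f.1 := ⟨_, rfl⟩
    have hmonic : ∀ g ∈ M, g.Monic := fun g hg => by
      rw [hM] at hg
      have h1 := UniqueFactorizationMonoid.normalize_normalized_factor g hg
      rw [← h1]
      exact Polynomial.monic_normalize (UniqueFactorizationMonoid.irreducible_of_normalized_factor g hg).ne_zero
    have hprod : M.prod = f.1 := by
      rw [hM, UniqueFactorizationMonoid.prod_normalizedFactors_eq hf0, f.2.1.normalize_eq_self]
    have hirr : ∀ g ∈ M, Irreducible g := fun g hg =>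
      UniqueFactorizationMonoid.irreducible_of_normalized_factor g (hM ▸ hg)
    have hcoeff : ∀ g ∈ M, g.coeff 0 ≠ 0 := fun g hg h0 => f.2.2.2 (by
      rw [← hprod, Polynomial.coeff_zero_multiset_prod]
      exact Multiset.prod_eq_zero (Multiset.mem_map.2 ⟨g, hg, h0⟩))
    obtain ⟨S, hS⟩ : ∃ S : Multiset ((d : ℕ) × IrrPoly F d), S.map (fun p => p.2.1) = M :=
      ⟨M.attach.map fun g => ⟨g.1.natDegree, ⟨g.1, hmonic g.1 g.2, hirr g.1 g.2, rfl, hcoeff g.1 g.2⟩⟩,
        by rw [Multiset.map_map]; exact M.attach_map_val⟩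
    have hdeg : (S.map Sigma.fst).sum = n := by
      rw [← f.2.2.1, ← hprod, Polynomial.natDegree_multiset_prod_of_monic _ hmonic, ← hS, Multiset.map_map]
      exact congrArg Multiset.sum (Multiset.map_congr rfl fun p _ => p.2.2.2.2.1.symm)
    exact ⟨⟨S, hdeg⟩, Subtype.ext (by show (S.map fun p => p.2.1).prod = _; rw [hS, hprod])⟩

theorem finite_MS_poly : Finite (MS (IrrPoly F) n) := Finite.of_injective _ prodOf_bijective.1

theorem card_MS_poly {m : ℕ} :
    Nat.card (MS (IrrPoly F) (m + 1)) = (Fintype.card F - 1) * Fintype.card F ^ m := by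
  rw [Nat.card_eq_of_bijective _ prodOf_bijective, CfsgLib.GLClass.card_goodPoly, CfsgLib.GLClass.cnt]

theorem finite_irrPoly (d : ℕ) : Finite (IrrPoly F d) :=
  Finite.of_injective (fun f => (⟨f.1, f.2.1, f.2.2.2.1, f.2.2.2.2⟩ : CfsgLib.GLClass.GoodPoly F d))
    fun f g h => Subtype.ext (congrArg (fun x : CfsgLib.GLClass.GoodPoly F d => x.1) h)

theorem finite_cuspIrr (d : ℕ) : Finite (CuspIrr F d) :=
  Finite.of_injective (fun χ => (⟨χ.1, χ.2.2.1⟩ : Cfsg.IrrCharacter (GL (Fin d) F)))
    fun χ χ' h => Subtype.ext (congrArg (fun x : Cfsg.IrrCharacter (GL (Fin d) F) => x.1) h)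

/-- Cuspidal characters are as many as irreducible polynomials. -/
theorem card_cusp_eq (d : ℕ) : Nat.card (CuspIrr F d) = Nat.card (IrrPoly F d) := by
  induction d using Nat.strong_induction_on with
  | _ d ih =>
    rcases d with _ | m
    · haveI : IsEmpty (CuspIrr F 0) := ⟨fun χ => lt_irrefl 0 χ.2.1⟩
      haveI : IsEmpty (IrrPoly F 0) := ⟨fun f => by
        have := f.2.2.1.natDegree_pos
        omega⟩
      simp
    · haveI := fun k => finite_cuspIrr (F := F) k
      haveI := fun k => finite_irrPoly (F := F) k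
      haveI := finite_MS_cusp (F := F) (n := m + 1)
      haveI := finite_MS_poly (F := F) (n := m + 1)
      have h1 := card_MS_eq (A := CuspIrr F) (fun _ χ => χ.2.1) (m + 1) (Nat.succ_pos m)
      have h2 := card_MS_eq (A := IrrPoly F) (fun k f => by
        have := f.2.2.1.natDegree_pos
        omega) (m + 1) (Nat.succ_pos m)
      rw [card_MS_cusp] at h1
      rw [card_MS_poly] at h2
      have h3 := card_MSlt_congr (A := CuspIrr F) (B := IrrPoly F) (m + 1)
        fun k hk => (Finite.card_eq.1 (ih k hk)).some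
      omega

theorem totient_le_mul_card_irrPoly (n : ℕ) (hn : 0 < n) :
    Nat.totient (Fintype.card F ^ n - 1) ≤ n * Nat.card (IrrPoly F n) := by
  classical
  obtain ⟨p, hp⟩ := CharP.exists F
  haveI : Fact p.Prime := ⟨CharP.char_is_prime F p⟩
  haveI : NeZero n := ⟨hn.ne'⟩
  let K := FiniteField.Extension F p n
  haveI : Fintype K := Fintype.ofFinite _
  haveI : Fintype (IrrPoly F n) := @Fintype.ofFinite _ (finite_irrPoly n)
  have hK : Fintype.card Kˣ = Fintype.card F ^ n - 1 := by
    rw [Fintype.card_units, ← Nat.card_eq_fintype_card, FiniteField.natCard_extension,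
      Nat.card_eq_fintype_card]
  rw [← hK, ← IsCyclic.card_orderOf_eq_totient (α := Kˣ) dvd_rfl, Nat.card_eq_fintype_card,
    ← Finset.card_univ (α := IrrPoly F n)]
  have hmap : ∀ x : Kˣ, orderOf x = Fintype.card Kˣ → (minpoly F (x : K)).natDegree = n := by
    intro x hx
    have htop : IntermediateField.adjoin F {(x : K)} = ⊤ := by
      rw [eq_top_iff]
      intro y _
      rcases eq_or_ne y 0 with rfl | hy
      · exact zero_mem _
      · have hz : Units.mk0 y hy ∈ Subgroup.zpowers x := by
          have : Subgroup.zpowers x = ⊤ := Subgroup.eq_top_of_card_eq _ (by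
            rw [Nat.card_zpowers, hx, Nat.card_eq_fintype_card])
          rw [this]; exact Subgroup.mem_top _
        obtain ⟨k, hk⟩ := Subgroup.mem_zpowers_iff.1 hz
        have hy' : y = (x : K) ^ k := by
          rw [← Units.val_zpow_eq_zpow_val, hk, Units.val_mk0]
        rw [hy']
        exact zpow_mem (IntermediateField.mem_adjoin_simple_self F (x : K)) k
    rw [← IntermediateField.adjoin.finrank (IsIntegral.of_finite F (x : K)), htop,
      IntermediateField.finrank_top', FiniteField.finrank_extension]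
  let Φ : Kˣ → Option (IrrPoly F n) := fun x =>
    if h : (minpoly F (x : K)).natDegree = n then
      some ⟨minpoly F (x : K), minpoly.monic (IsIntegral.of_finite F _),
        minpoly.irreducible (IsIntegral.of_finite F _), h,
        minpoly.coeff_zero_ne_zero (IsIntegral.of_finite F _) x.ne_zero⟩
    else none
  refine le_trans (Finset.card_le_mul_card_image_of_maps_to (f := Φ)
    (t := (Finset.univ : Finset (IrrPoly F n)).image some) (fun x hx => ?_) n fun o ho => ?_) ?_
  · simp only [Φ, dif_pos (hmap x (Finset.mem_filter.1 hx).2)]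
    exact Finset.mem_image_of_mem _ (Finset.mem_univ _)
  · obtain ⟨f, -, rfl⟩ := Finset.mem_image.1 ho
    calc _ ≤ (f.1.aroots K).toFinset.card := by
          refine Finset.card_le_card_of_injOn (fun x : Kˣ => (x : K)) (fun x hx => ?_)
            fun x _ y _ h => Units.ext h
          simp only [Finset.coe_filter, Set.mem_setOf_eq] at hx
          obtain ⟨-, hx⟩ := hx
          simp only [Φ] at hx
          split_ifs at hx with hd
          obtain rfl : _ = f := Option.some_injective _ hx
          simp only [Finset.mem_coe, Multiset.mem_toFinset, Polynomial.mem_aroots]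
          exact ⟨minpoly.ne_zero (IsIntegral.of_finite F _), minpoly.aeval F _⟩
      _ ≤ Multiset.card (f.1.aroots K) := Multiset.toFinset_card_le _
      _ ≤ (f.1.map (algebraMap F K)).natDegree := Polynomial.card_roots' _
      _ = n := by rw [Polynomial.natDegree_map, f.2.2.2.1]
  · rw [Finset.card_image_of_injective _ (Option.some_injective _)]

/-- At least `φ(qⁿ - 1)/n` cuspidal irreducible characters. -/
theorem totient_div_le_card_cusp (n : ℕ) (hn : 0 < n) :
    Nat.totient (Fintype.card F ^ n - 1) / n ≤ Nat.card (CuspIrr F n) := by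
  rw [card_cusp_eq]
  exact Nat.div_le_of_le_mul (totient_le_mul_card_irrPoly n hn)

end CfsgLib.GLCusp
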