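import Cfsg.Agent.Char.Central
import Cfsg.Agent.Char.Orthogonality
import Mathlib.LinearAlgebra.Trace

/-!
# Sums of characters over subgroups
-/

set_option autoImplicit false
set_option linter.unusedSectionVars false

namespace CfsgLib.GLCusp

open scoped ComplexConjugate
open Module

universe u

variable {G : Type u} [Group G] [Fintype G]

open scoped Classical in
/-- The sum of a function over a subgroup. -/
noncomputable def sumOn (H : Subgroup G) (f : G → ℂ) : ℂ :=
  ∑ g ∈ Finset.univ.filter (fun g => g ∈ H), f g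

theorem sumOn_eq_sum (H : Subgroup G) [Fintype H] (f : G → ℂ) : sumOn H f = ∑ h : H, f h := by
  classical
  rw [sumOn]
  exact Finset.sum_subtype _ (by simp) f

theorem sumOn_congr {H : Subgroup G} {f g : G → ℂ} (h : ∀ x ∈ H, f x = g x) :
    sumOn H f = sumOn H g := by
  classical
  exact Finset.sum_congr rfl fun x hx => h x (Finset.mem_filter.1 hx).2

theorem sumOn_mul_left (H : Subgroup G) {v : G} (hv : v ∈ H) (f : G → ℂ) :
    sumOn H (fun x => f (v * x)) = sumOn H f := by
  classical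
  refine Finset.sum_equiv (Equiv.mulLeft v) (fun x => ?_) (fun x _ => rfl)
  simp only [Finset.mem_filter, Finset.mem_univ, true_and, Equiv.coe_mulLeft]
  exact (H.mul_mem_cancel_left hv).symm

theorem sumOn_const (H : Subgroup G) (c : ℂ) : sumOn H (fun _ => c) = (Nat.card H : ℂ) * c := by
  haveI := Fintype.ofFinite H
  rw [sumOn_eq_sum, Finset.sum_const, Finset.card_univ, nsmul_eq_mul, Nat.card_eq_fintype_card]

theorem card_ne_zero (H : Subgroup G) : (Nat.card H : ℂ) ≠ 0 := by
  exact_mod_cast (Nat.card_pos (α := H)).ne'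

/-- A nontrivial translation kills the sum. -/
theorem sumOn_eq_zero_of_translate {H : Subgroup G} {v : G} (hv : v ∈ H) {f : G → ℂ} {c : ℂ}
    (hc : c ≠ 1) (h : ∀ x ∈ H, f (v * x) = c * f x) : sumOn H f = 0 := by
  have h1 := sumOn_mul_left H hv f
  rw [sumOn_congr h] at h1
  have h2 : sumOn H (fun x => c * f x) = c * sumOn H f := by
    classical
    rw [sumOn, sumOn, Finset.mul_sum]
  rw [h2] at h1
  have h3 : (c - 1) * sumOn H f = 0 := by rw [sub_mul, one_mul, h1, sub_self]
  exact (mul_eq_zero.1 h3).resolve_left (sub_ne_zero.2 hc)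

variable {V : Type*} [AddCommGroup V] [Module ℂ V] [FiniteDimensional ℂ V]

/-- The weighted average of a subgroup in a representation. -/
noncomputable def avgOp (ρ : Representation ℂ G V) (H : Subgroup G) [Fintype H] (lam : G → ℂ) :
    Module.End ℂ V :=
  (Nat.card H : ℂ)⁻¹ • ∑ h : H, lam h • ρ h

theorem mul_avgOp (ρ : Representation ℂ G V) (H : Subgroup G) [Fintype H] {lam : G → ℂ}
    (hmul : ∀ a ∈ H, ∀ b ∈ H, lam (a * b) = lam a * lam b) {u : G} (hu : u ∈ H) {c : ℂ}
    (hc : c * lam u = 1) : ρ u * avgOp ρ H lam = c • avgOp ρ H lam := by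
  rw [avgOp, mul_smul_comm, smul_comm c, Finset.mul_sum]
  congr 1
  rw [Finset.smul_sum]
  refine Fintype.sum_equiv (Equiv.mulLeft (⟨u, hu⟩ : H)) _ _ fun h => ?_
  rw [mul_smul_comm, ← map_mul, smul_smul, Equiv.coe_mulLeft, Subgroup.coe_mul, hmul u hu h h.2,
    ← mul_assoc, hc, one_mul]

theorem avgOp_mul (ρ : Representation ℂ G V) (H : Subgroup G) [Fintype H] {lam : G → ℂ}
    (hmul : ∀ a ∈ H, ∀ b ∈ H, lam (a * b) = lam a * lam b) {u : G} (hu : u ∈ H) {c : ℂ}
    (hc : c * lam u = 1) : avgOp ρ H lam * ρ u = c • avgOp ρ H lam := by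
  rw [avgOp, smul_mul_assoc, smul_comm c, Finset.sum_mul]
  congr 1
  rw [Finset.smul_sum]
  refine Fintype.sum_equiv (Equiv.mulRight (⟨u, hu⟩ : H)) _ _ fun h => ?_
  rw [smul_mul_assoc, ← map_mul, smul_smul, Equiv.coe_mulRight, Subgroup.coe_mul, hmul h h.2 u hu,
    mul_comm (lam h), ← mul_assoc, hc, one_mul]

theorem avgOp_idem (ρ : Representation ℂ G V) (H : Subgroup G) [Fintype H] {lam : G → ℂ}
    (hmul : ∀ a ∈ H, ∀ b ∈ H, lam (a * b) = lam a * lam b)
    (hne : ∀ a ∈ H, lam a ≠ 0) : IsIdempotentElem (avgOp ρ H lam) := by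
  rw [IsIdempotentElem]
  nth_rw 1 [avgOp]
  rw [smul_mul_assoc, Finset.sum_mul, Finset.sum_congr rfl fun (h : H) _ => by
    rw [smul_mul_assoc, mul_avgOp ρ H hmul h.2 (inv_mul_cancel₀ (hne h h.2)), smul_smul,
      mul_inv_cancel₀ (hne h h.2), one_smul],
    Finset.sum_const, Finset.card_univ, ← Nat.cast_smul_eq_nsmul ℂ, smul_smul,
    ← Nat.card_eq_fintype_card, inv_mul_cancel₀ (card_ne_zero H), one_smul]

theorem trace_avgOp (ρ : Representation ℂ G V) (H : Subgroup G) [Fintype H] (lam : G → ℂ) :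
    LinearMap.trace ℂ V (avgOp ρ H lam) =
      (Nat.card H : ℂ)⁻¹ * sumOn H (fun g => lam g * ρ.character g) := by
  rw [avgOp, map_smul, map_sum, smul_eq_mul, sumOn_eq_sum]
  congr 1
  exact Finset.sum_congr rfl fun h _ => by rw [map_smul, smul_eq_mul]; rfl

theorem trace_idem' {E : Module.End ℂ V} (h : IsIdempotentElem E) :
    LinearMap.trace ℂ V E = (finrank ℂ (LinearMap.range E) : ℂ) :=
  LinearMap.IsProj.trace (LinearMap.IsIdempotentElem.isProj_range E h)

/-- A character sum over a subgroup is a natural multiple of its order. -/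
theorem exists_sumOn_eq {χ : G → ℂ} (hχ : Cfsg.IsCharacter G χ) (H : Subgroup G) :
    ∃ d : ℕ, sumOn H χ = (Nat.card H : ℂ) * d := by
  haveI := Fintype.ofFinite H
  obtain ⟨m, ρ, rfl⟩ := hχ
  refine ⟨finrank ℂ (LinearMap.range (avgOp ρ H fun _ => 1)), ?_⟩
  rw [← trace_idem' (avgOp_idem ρ H (fun _ _ _ _ => (one_mul 1).symm) fun _ _ => one_ne_zero),
    trace_avgOp, ← mul_assoc, mul_inv_cancel₀ (card_ne_zero H), one_mul]
  simp

/-- A character with no fixed vectors sums to zero over every coset. -/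
theorem sumOn_translate_eq_zero {χ : G → ℂ} (hχ : Cfsg.IsCharacter G χ) (H : Subgroup G)
    (h : sumOn H χ = 0) (g : G) : sumOn H (fun v => χ (v * g)) = 0 := by
  haveI := Fintype.ofFinite H
  obtain ⟨m, ρ, rfl⟩ := hχ
  have hid := avgOp_idem ρ H (lam := fun _ => (1 : ℂ)) (fun _ _ _ _ => (one_mul 1).symm)
    fun _ _ => one_ne_zero
  have h0 : avgOp ρ H (fun _ => 1) = 0 := by
    have h1 := trace_idem' hid
    rw [trace_avgOp] at h1
    simp only [one_mul] at h1
    rw [h, mul_zero, eq_comm, Nat.cast_eq_zero, Submodule.finrank_eq_zero] at h1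
    exact LinearMap.range_eq_bot.1 h1
  have h2 : LinearMap.trace ℂ _ (avgOp ρ H (fun _ => 1) * ρ g) = 0 := by rw [h0, zero_mul, map_zero]
  rw [avgOp, smul_mul_assoc, map_smul, smul_eq_mul, Finset.sum_mul, map_sum] at h2
  rw [sumOn_eq_sum]
  refine Eq.trans (Finset.sum_congr rfl fun h _ => ?_)
    ((mul_eq_zero.1 h2).resolve_left (inv_ne_zero (card_ne_zero H)))
  rw [one_smul, ← map_mul]
  rfl

end CfsgLib.GLCusp
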