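import Cfsg.Agent.GLCusp.Groups
import Cfsg.Agent.GLCusp.Ops
import Mathlib.LinearAlgebra.Matrix.SchurComplement

/-!
# The degree of a cuspidal character
-/

set_option autoImplicit false
set_option linter.unusedSectionVars false

namespace CfsgLib.GLCusp

open Matrix
open scoped MatrixGroups ComplexConjugate

universe u

variable {F : Type u} [Field F] [Fintype F] [DecidableEq F] {n : ℕ}

/-- The two-block labelling at `s`. -/
def splitLab (s : ℕ) (i : Fin n) : ℕ := if i.val < s then 0 else 1

/-- Cuspidality: no fixed vectors for the radicals of the maximal standard parabolics. -/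
def Cuspidal (χ : GL (Fin n) F → ℂ) : Prop :=
  ∀ s : ℕ, 0 < s → s < n → sumOn (rad F (splitLab (n := n) s)) χ = 0

/-- The labelling whose radical is supported in the columns from `k` on. -/
def colLab (k : ℕ) (i : Fin n) : ℕ := if i.val < k then 0 else i.val + 1

theorem colLab_mono (k : ℕ) : Monotone (colLab (n := n) k) := fun i j h => by
  rw [Fin.le_def] at h
  simp only [colLab]
  split_ifs <;> omega

theorem colRad_le_unip (k : ℕ) : rad F (colLab (n := n) k) ≤ unip F n := fun _ hg =>
  mem_unip.2 fun i j hij => mem_rad.1 hg i j (colLab_mono k hij)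

theorem colRad_one : rad F (colLab (n := n) 1) = unip F n := by
  refine le_antisymm (colRad_le_unip 1) fun g hg => mem_rad.2 fun i j h => mem_unip.1 hg i j ?_
  simp only [colLab] at h
  rw [Fin.le_def]
  split_ifs at h <;> omega

theorem colRad_top : rad F (colLab (n := n) n) = ⊥ := by
  rw [eq_bot_iff]
  intro g hg
  rw [Subgroup.mem_bot]
  refine Units.ext (Matrix.ext fun i j => ?_)
  rw [Units.val_one, mem_rad.1 hg i j (by simp [colLab, i.isLt, j.isLt])]

theorem mem_colRad_succ {K : Fin n} {g : GL (Fin n) F} :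
    g ∈ rad F (colLab (n := n) (K.val + 1)) ↔
      g ∈ rad F (colLab (n := n) K.val) ∧ ∀ i, i < K → g i K = 0 := by
  constructor
  · intro hg
    refine ⟨mem_rad.2 fun i j h => mem_rad.1 hg i j ?_, fun i hi => ?_⟩
    · simp only [colLab] at h ⊢
      split_ifs at h ⊢ <;> omega
    · rw [mem_rad.1 hg i K ?_, Matrix.one_apply_ne (ne_of_lt hi)]
      rw [Fin.lt_def] at hi
      simp [colLab, show i.val < K.val + 1 by omega]
  · rintro ⟨hg, hz⟩
    refine mem_rad.2 fun i j h => ?_
    by_cases hjK : j = K ∧ i < K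
    · obtain ⟨rfl, hi⟩ := hjK
      rw [hz i hi, Matrix.one_apply_ne (ne_of_lt hi)]
    · refine mem_rad.1 hg i j ?_
      rw [Fin.lt_def, Fin.ext_iff] at hjK
      simp only [colLab] at h ⊢
      split_ifs at h ⊢ <;> omega

/-- The super-diagonal entries in the rows from `k` on. -/
def tail (k : ℕ) (g : Matrix (Fin n) (Fin n) F) : F :=
  ∑ i : Fin n, ∑ j : Fin n, if k ≤ i.val ∧ j.val = i.val + 1 then g i j else 0

/-- Functionals on the column above `(K, K)`. -/
abbrev Above (F : Type u) [Field F] (K : Fin n) : Type u := {a : Fin n → F // ∀ i, K ≤ i → a i = 0}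

/-- A functional evaluated on the column `K`. -/
def colVal {K : Fin n} (a : Above F K) (g : Matrix (Fin n) (Fin n) F) : F := ∑ i, a.1 i * g i K

theorem colVal_mul {K : Fin n} (a : Above F K) {g h : GL (Fin n) F}
    (hg : g ∈ rad F (colLab (n := n) K.val)) (hh : h ∈ rad F (colLab (n := n) K.val)) :
    colVal a ((g * h : GL (Fin n) F) : Matrix (Fin n) (Fin n) F) =
      colVal a (g : Matrix (Fin n) (Fin n) F) + colVal a (h : Matrix (Fin n) (Fin n) F) := by
  rw [colVal, colVal, colVal, ← Finset.sum_add_distrib]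
  refine Finset.sum_congr rfl fun i _ => ?_
  by_cases hi : K ≤ i
  · simp [a.2 i hi]
  push Not at hi
  rw [← mul_add]
  congr 1
  change ((g : Matrix (Fin n) (Fin n) F) * (h : Matrix (Fin n) (Fin n) F)) i K = _
  have hne : i ≠ K := ne_of_lt hi
  rw [Matrix.mul_apply, ← Finset.sum_subset (Finset.subset_univ ({i, K} : Finset (Fin n))),
    Finset.sum_pair hne]
  · rw [unip_diag (colRad_le_unip _ hg), unip_diag (colRad_le_unip _ hh), one_mul, mul_one, add_comm]
  · intro l _ hl
    simp only [Finset.mem_insert, Finset.mem_singleton, not_or] at hl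
    rcases lt_or_gt_of_ne hl.2 with h' | h'
    · rw [mem_rad.1 hg i l ?_, Matrix.one_apply_ne (Ne.symm hl.1), zero_mul]
      rw [Fin.lt_def] at h' hi
      simp [colLab, h', hi]
    · rw [unip_lower (colRad_le_unip _ hh) h', mul_zero]

theorem tail_mul (k : ℕ) {g h : GL (Fin n) F} (hg : g ∈ unip F n) (hh : h ∈ unip F n) :
    tail k ((g * h : GL (Fin n) F) : Matrix (Fin n) (Fin n) F) =
      tail k (g : Matrix (Fin n) (Fin n) F) + tail k (h : Matrix (Fin n) (Fin n) F) := by
  simp only [tail]
  rw [← Finset.sum_add_distrib]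
  refine Finset.sum_congr rfl fun i _ => ?_
  rw [← Finset.sum_add_distrib]
  refine Finset.sum_congr rfl fun j _ => ?_
  split_ifs with hij
  · exact mul_super hg hh hij.2
  · rw [add_zero]

theorem psi_eq_tail_succ {K : Fin n} {g : GL (Fin n) F} (hg : g ∈ rad F (colLab (n := n) (K.val + 1))) :
    psi g = eChar F (tail K.val (g : Matrix (Fin n) (Fin n) F)) := by
  rw [psi]
  congr 1
  refine Finset.sum_congr rfl fun i _ => Finset.sum_congr rfl fun j _ => ?_
  by_cases h1 : j.val = i.val + 1
  · by_cases h2 : K.val ≤ i.val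
    · rw [if_pos h1, if_pos ⟨h2, h1⟩]
    · rw [if_pos h1, if_neg (fun h => h2 h.1), mem_rad.1 hg i j ?_, Matrix.one_apply_ne]
      · intro e; rw [e] at h1; omega
      · simp [colLab, show j.val < K.val + 1 by omega, show i.val < K.val + 1 by omega]
  · rw [if_neg h1, if_neg fun h => h1 h.2]

/-- The functional reading off the entry just left of the diagonal. -/
def lastFun (K : Fin n) : Above F K :=
  ⟨fun i => if i.val + 1 = K.val then 1 else 0, fun i hi => by
    rw [Fin.le_def] at hi
    exact if_neg (by omega)⟩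

theorem psi_eq_lastFun {K : Fin n} (hK : 0 < K.val) {g : GL (Fin n) F}
    (hg : g ∈ rad F (colLab (n := n) K.val)) :
    psi g = eChar F (colVal (lastFun K) (g : Matrix (Fin n) (Fin n) F) +
      tail K.val (g : Matrix (Fin n) (Fin n) F)) := by
  rw [psi]
  congr 1
  obtain ⟨P, hP⟩ : ∃ P : Fin n, P.val + 1 = K.val := ⟨⟨K.val - 1, by omega⟩, by simp only; omega⟩
  have hcol : colVal (lastFun K) (g : Matrix (Fin n) (Fin n) F) = g P K := by
    rw [colVal, Finset.sum_eq_single P]
    · simp [lastFun, hP]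
    · intro i _ hi
      rw [show (lastFun (F := F) K).1 i = 0 from if_neg fun h => hi (Fin.ext (by omega)), zero_mul]
    · simp
  have hsingle : (∑ i : Fin n, ∑ j : Fin n, if i = P ∧ j = K then g i j else 0) = g P K := by
    simp [ite_and]
  rw [hcol, ← hsingle]
  simp only [tail, superSum]
  rw [← Finset.sum_add_distrib]
  refine Finset.sum_congr rfl fun i _ => ?_
  rw [← Finset.sum_add_distrib]
  refine Finset.sum_congr rfl fun j _ => ?_
  simp only [Fin.ext_iff]
  by_cases h1 : j.val = i.val + 1
  · rw [if_pos h1]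
    by_cases h2 : K.val ≤ i.val
    · rw [if_neg (show ¬(i.val = P.val ∧ j.val = K.val) by omega),
        if_pos (show K.val ≤ i.val ∧ j.val = i.val + 1 from ⟨h2, h1⟩), zero_add]
    · rw [if_neg (show ¬(K.val ≤ i.val ∧ j.val = i.val + 1) from fun h => h2 h.1)]
      by_cases h3 : j.val = K.val
      · rw [if_pos (show i.val = P.val ∧ j.val = K.val from ⟨by omega, h3⟩), add_zero]
      · rw [if_neg (show ¬(i.val = P.val ∧ j.val = K.val) from fun h => h3 h.2), add_zero,
          mem_rad.1 hg i j ?_, Matrix.one_apply_ne]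
        · intro e; rw [e] at h1; omega
        · simp [colLab, show j.val < K.val by omega, show i.val < K.val by omega]
  · rw [if_neg h1, if_neg (show ¬(K.val ≤ i.val ∧ j.val = i.val + 1) from fun h => h1 h.2),
      if_neg (show ¬(i.val = P.val ∧ j.val = K.val) by omega), add_zero]

theorem card_above (K : Fin n) : Nat.card (Above F K) = Fintype.card F ^ K.val := by
  classical
  let e : Above F K ≃ ({i : Fin n // i < K} → F) :=
    { toFun := fun a i => a.1 i
      invFun := fun b => ⟨fun i => if h : i < K then b ⟨i, h⟩ else 0, fun i hi => dif_neg (not_lt.2 hi)⟩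
      left_inv := fun a => Subtype.ext (funext fun i => by
        by_cases h : i < K
        · simp [h]
        · simp [h, a.2 i (not_lt.1 h)])
      right_inv := fun b => funext fun i => by simp [i.2] }
  rw [Nat.card_congr e, Nat.card_fun, Nat.card_eq_fintype_card (α := F), Nat.card_eq_fintype_card,
    Fintype.card_subtype]
  congr 1
  have : (Finset.univ.filter fun i : Fin n => i < K) = Finset.Iio K := by ext i; simp
  rw [this, Fin.card_Iio]

open scoped Classical in
/-- Summing over all functionals detects the vanishing of the column. -/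
theorem sum_eChar_colVal {K : Fin n} (g : Matrix (Fin n) (Fin n) F) :
    ∑ a : Above F K, conj (eChar F (colVal a g)) =
      if ∀ i, i < K → g i K = 0 then ((Fintype.card F ^ K.val : ℕ) : ℂ) else 0 := by
  by_cases h : ∀ i, i < K → g i K = 0
  · rw [if_pos h, Finset.sum_congr rfl (g := fun _ => (1 : ℂ)) fun a _ => ?_, Finset.sum_const,
      Finset.card_univ, nsmul_eq_mul, mul_one, ← Nat.card_eq_fintype_card, card_above]
    have : colVal a g = 0 := Finset.sum_eq_zero fun i _ => by
      by_cases hi : i < K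
      · rw [h i hi, mul_zero]
      · rw [a.2 i (not_lt.1 hi), zero_mul]
    rw [this, AddChar.map_zero_eq_one, map_one]
  · rw [if_neg h]
    push Not at h
    obtain ⟨p, hp, hne⟩ := h
    obtain ⟨x, hx⟩ := eChar_ne_one hne
    let a₀ : Above F K := ⟨Pi.single p x, fun i hi =>
      by simp [ne_of_gt (lt_of_lt_of_le hp hi)]⟩
    let T : Above F K ≃ Above F K :=
      { toFun := fun a => ⟨a₀.1 + a.1, fun i hi => by simp [a₀.2 i hi, a.2 i hi]⟩
        invFun := fun a => ⟨-a₀.1 + a.1, fun i hi => by simp [a₀.2 i hi, a.2 i hi]⟩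
        left_inv := fun a => Subtype.ext (neg_add_cancel_left _ _)
        right_inv := fun a => Subtype.ext (add_neg_cancel_left _ _) }
    have hT : ∀ a, colVal (T a) g = colVal a₀ g + colVal a g := fun a => by
      simp [colVal, T, add_mul, Finset.sum_add_distrib]
    have h0 : colVal a₀ g = g p K * x := by
      rw [colVal, Finset.sum_eq_single p]
      · simp [a₀, mul_comm]
      · intro i _ hi; simp [a₀, hi]
      · simp
    have h1 := (Equiv.sum_comp T fun a => conj (eChar F (colVal a g))).symm
    simp only [hT, AddChar.map_add_eq_mul, map_mul, ← Finset.mul_sum, h0] at h1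
    have hc : conj (eChar F (g p K * x)) ≠ 1 := fun he => hx ((RingEquiv.map_eq_one_iff
      (starRingAut : RingAut ℂ)).1 he)
    exact eq_zero_of_mul_eq_self_left hc h1.symm

theorem sum_sumOn_colVal {K : Fin n} (f : GL (Fin n) F → ℂ) :
    ∑ a : Above F K, sumOn (rad F (colLab (n := n) K.val))
        (fun g => f g * conj (eChar F (colVal a (g : Matrix (Fin n) (Fin n) F)))) =
      ((Fintype.card F ^ K.val : ℕ) : ℂ) * sumOn (rad F (colLab (n := n) (K.val + 1))) f := by
  classical
  simp only [sumOn]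
  rw [Finset.sum_comm]
  simp only [← Finset.mul_sum, sum_eChar_colVal, mul_ite, mul_zero]
  rw [← Finset.sum_filter, Finset.filter_filter, Finset.mul_sum]
  refine Finset.sum_congr (Finset.filter_congr fun g _ => mem_colRad_succ.symm) fun g _ => mul_comm _ _

theorem card_colRad (K : Fin n) :
    (Nat.card (rad F (colLab (n := n) K.val)) : ℂ) =
      ((Fintype.card F ^ K.val : ℕ) : ℂ) * (Nat.card (rad F (colLab (n := n) (K.val + 1))) : ℂ) := by
  classical
  have h := sum_sumOn_colVal (F := F) (K := K) fun _ => 1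
  rw [sumOn_const (rad F (colLab (n := n) (K.val + 1))), mul_one,
    Finset.sum_eq_single (⟨0, fun _ _ => rfl⟩ : Above F K)] at h
  · rw [← h, sumOn_congr (g := fun _ => 1), sumOn_const, mul_one]
    intro g _
    simp [colVal]
  · intro a _ ha
    obtain ⟨p, hp⟩ : ∃ p, a.1 p ≠ 0 := by
      by_contra! hall
      exact ha (Subtype.ext (funext hall))
    have hpK : p < K := not_le.1 fun hle => hp (a.2 p hle)
    obtain ⟨x, hx⟩ := eChar_ne_one hp
    have hmem : root p K (ne_of_lt hpK) x ∈ rad F (colLab (n := n) K.val) :=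
      root_mem_rad _ (by rw [Fin.lt_def] at hpK; simp [colLab, hpK]) x
    refine sumOn_eq_zero_of_translate hmem (c := conj (eChar F (a.1 p * x))) (fun he => hx
      ((RingEquiv.map_eq_one_iff (starRingAut : RingAut ℂ)).1 he)) fun g hg => ?_
    rw [colVal_mul a hmem hg, AddChar.map_add_eq_mul, map_mul]
    have : colVal a ((root p K (ne_of_lt hpK) x : GL (Fin n) F) : Matrix (Fin n) (Fin n) F) =
        a.1 p * x := by
      rw [colVal, Finset.sum_eq_single p]
      · rw [root_apply, if_pos ⟨rfl, rfl⟩, Matrix.one_apply_ne (ne_of_lt hpK), zero_add]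
      · intro i _ hi
        by_cases hiK : K ≤ i
        · rw [a.2 i hiK, zero_mul]
        · rw [root_apply, if_neg fun h => hi h.1.symm, Matrix.one_apply_ne (ne_of_lt (not_le.1 hiK)),
            zero_add, mul_zero]
      · simp
    rw [this]
    ring
  · simp

/-- The twisted sum over the column radical. -/
noncomputable def colSum (χ : GL (Fin n) F → ℂ) {K : Fin n} (a : Above F K) : ℂ :=
  sumOn (rad F (colLab (n := n) K.val)) fun g => χ g * conj (eChar F
    (colVal a (g : Matrix (Fin n) (Fin n) F) + tail K.val (g : Matrix (Fin n) (Fin n) F)))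

theorem colSum_zero {χ : GL (Fin n) F → ℂ} (hχ : Cfsg.IsCharacter (GL (Fin n) F) χ)
    (hc : Cuspidal χ) {K : Fin n} (hK : 0 < K.val) :
    colSum χ (⟨0, fun _ _ => rfl⟩ : Above F K) = 0 := by
  classical
  obtain ⟨V, hV⟩ : ∃ V, V = rad F (splitLab (n := n) K.val) := ⟨_, rfl⟩
  have hVle : V ≤ rad F (colLab (n := n) K.val) := fun g hg => mem_rad.2 fun i j h => by
    refine mem_rad.1 (hV ▸ hg) i j ?_
    simp only [colLab, splitLab] at h ⊢
    split_ifs at h ⊢ <;> omega
  have htail : ∀ v ∈ V, tail K.val (v : Matrix (Fin n) (Fin n) F) = 0 := fun v hv =>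
    Finset.sum_eq_zero fun i _ => Finset.sum_eq_zero fun j _ => by
      split_ifs with h
      · rw [mem_rad.1 (hV ▸ hv) i j (by simp [splitLab, show ¬ i.val < K.val by omega,
          show ¬ j.val < K.val by omega]), Matrix.one_apply_ne]
        intro e; rw [e] at h; omega
      · rfl
  let f : GL (Fin n) F → ℂ := fun g => χ g * conj (eChar F (tail K.val (g : Matrix (Fin n) (Fin n) F)))
  have hf : colSum χ (⟨0, fun _ _ => rfl⟩ : Above F K) = sumOn (rad F (colLab (n := n) K.val)) f :=
    sumOn_congr fun g _ => by simp [colVal, f]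
  have h1 : sumOn V (fun v => sumOn (rad F (colLab (n := n) K.val)) fun g => f (v * g)) = 0 := by
    simp only [sumOn]
    rw [Finset.sum_comm]
    refine Finset.sum_eq_zero fun g hg => ?_
    have hgU := (Finset.mem_filter.1 hg).2
    rw [Finset.sum_congr rfl (g := fun v => χ (v * g) *
      conj (eChar F (tail K.val (g : Matrix (Fin n) (Fin n) F)))) fun v hv => ?_, ← Finset.sum_mul]
    · have := sumOn_translate_eq_zero hχ V (hV ▸ hc K.val hK K.isLt) g
      rw [sumOn] at this
      rw [this, zero_mul]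
    · have hvV := (Finset.mem_filter.1 hv).2
      simp only [f]
      rw [tail_mul _ (colRad_le_unip _ (hVle hvV)) (colRad_le_unip _ hgU), htail v hvV, zero_add]
  rw [sumOn_congr (fun v hv => sumOn_mul_left _ (hVle hv) f), sumOn_const] at h1
  rw [hf]
  exact (mul_eq_zero.1 h1).resolve_left (card_ne_zero V)

theorem exists_dot {a b : Fin n → F} {K : Fin n} (ha : ∀ i, K ≤ i → a i = 0)
    (hb : ∀ i, K ≤ i → b i = 0) {i j : Fin n} (hi : a i ≠ 0) (hj : b j ≠ 0) :
    ∃ u : Fin n → F, (∀ l, K ≤ l → u l = 0) ∧ a ⬝ᵥ u = 1 ∧ b ⬝ᵥ u ≠ 0 := by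
  have hz : ∀ (p : Fin n) (c : F), p < K → ∀ l, K ≤ l → (Pi.single p c : Fin n → F) l = 0 :=
    fun p c hp l hl => by simp [ne_of_gt (lt_of_lt_of_le hp hl)]
  have hiK : i < K := not_le.1 fun h => hi (ha i h)
  have hjK : j < K := not_le.1 fun h => hj (hb j h)
  by_cases haj : a j ≠ 0
  · exact ⟨Pi.single j (a j)⁻¹, hz j _ hjK, by simp [haj], by simp [haj, hj]⟩
  push Not at haj
  by_cases hbi : b i ≠ 0
  · exact ⟨Pi.single i (a i)⁻¹, hz i _ hiK, by simp [hi], by simp [hi, hbi]⟩
  push Not at hbi
  refine ⟨Pi.single i (a i)⁻¹ + Pi.single j 1, fun l hl => ?_, ?_, ?_⟩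
  · rw [Pi.add_apply, hz i _ hiK l hl, hz j _ hjK l hl, add_zero]
  · simp [dotProduct_add, hi, haj]
  · simp [dotProduct_add, hbi, hj]

theorem colSum_eq {χ : GL (Fin n) F → ℂ} (hχ : Cfsg.IsClassFunction (GL (Fin n) F) χ) {K : Fin n}
    {a b : Above F K} (ha : a.1 ≠ 0) (hb : b.1 ≠ 0) : colSum χ a = colSum χ b := by
  classical
  obtain ⟨i₀, hi₀⟩ := Function.ne_iff.1 ha
  obtain ⟨j₀, hj₀⟩ := Function.ne_iff.1 hb
  obtain ⟨u, hu, hau, hbu⟩ := exists_dot a.2 b.2 hi₀ hj₀
  obtain ⟨v, hv⟩ : ∃ v, v = b.1 - a.1 := ⟨_, rfl⟩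
  have hdet : (1 + Matrix.replicateCol Unit u * Matrix.replicateRow Unit v).det ≠ 0 := by
    rw [Matrix.det_one_add_replicateCol_mul_replicateRow, hv, sub_dotProduct, hau]
    simpa using hbu
  obtain ⟨H, hH⟩ : ∃ H : GL (Fin n) F, H = Matrix.GeneralLinearGroup.mkOfDetNeZero _ hdet := ⟨_, rfl⟩
  have hval : ∀ p l, H p l = (1 : Matrix (Fin n) (Fin n) F) p l + u p * v l := fun p l => by
    subst hH
    simp [Matrix.GeneralLinearGroup.mkOfDetNeZero, Matrix.mul_apply]
  have hvz : ∀ l, K ≤ l → v l = 0 := fun l hl => by simp [hv, a.2 l hl, b.2 l hl]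
  have hent : ∀ g ∈ rad F (colLab (n := n) K.val), ∀ p l,
      (H * g * H⁻¹) p l = g p l + u p *
        ∑ m, v m * (g m l - (1 : Matrix (Fin n) (Fin n) F) m l) := by
    intro g hg
    let A : Matrix (Fin n) (Fin n) F := Matrix.of fun p l =>
      g p l + u p * ∑ m, v m * (g m l - (1 : Matrix (Fin n) (Fin n) F) m l)
    have hA : A * (H : Matrix (Fin n) (Fin n) F) = (H : Matrix (Fin n) (Fin n) F) * g := by
      have hgu : ∀ p, ∑ m, g p m * u m = u p := fun p => by
        rw [Finset.sum_eq_single p]
        · rw [unip_diag (colRad_le_unip _ hg), one_mul]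
        · intro m _ hm
          by_cases hmK : K ≤ m
          · rw [hu m hmK, mul_zero]
          · rw [mem_rad.1 hg p m ?_, Matrix.one_apply_ne (Ne.symm hm), zero_mul]
            rw [not_le, Fin.lt_def] at hmK
            simp [colLab, hmK]
        · simp
      have hwu : ∑ m, (∑ q, v q * (g q m - (1 : Matrix (Fin n) (Fin n) F) q m)) * u m = 0 := by
        simp only [Finset.sum_mul]
        rw [Finset.sum_comm]
        refine Finset.sum_eq_zero fun q _ => ?_
        simp only [mul_assoc, sub_mul, ← Finset.mul_sum, Finset.sum_sub_distrib, hgu]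
        simp [Matrix.one_apply]
      ext p l
      rw [Matrix.mul_apply, Matrix.mul_apply]
      have h1 : ∑ m, A p m * H m l = A p l + (∑ m, A p m * u m) * v l := by
        simp only [hval, mul_add, Finset.sum_add_distrib, Finset.sum_mul, mul_assoc]
        congr 1
        simp [Matrix.one_apply]
      have h2 : ∑ m, A p m * u m = u p := by
        simp only [A, Matrix.of_apply, add_mul, Finset.sum_add_distrib, mul_assoc, ← Finset.mul_sum,
          hgu, hwu, mul_zero, add_zero]
      have h3 : ∑ m, H p m * g m l = g p l + u p * ∑ m, v m * g m l := by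
        simp only [hval, add_mul, Finset.sum_add_distrib, mul_assoc, ← Finset.mul_sum]
        congr 1
        simp [Matrix.one_apply]
      rw [h1, h2, h3]
      simp only [A, Matrix.of_apply, mul_sub, Finset.sum_sub_distrib]
      simp [Matrix.one_apply]
      ring
    intro p l
    have : ((H * g * H⁻¹ : GL (Fin n) F) : Matrix (Fin n) (Fin n) F) = A := by
      rw [Units.val_mul, Units.val_mul, ← hA, Matrix.mul_assoc, ← Units.val_mul, mul_inv_cancel,
        Units.val_one, Matrix.mul_one]
    rw [this]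
    rfl
  have hmem : ∀ g ∈ rad F (colLab (n := n) K.val), H * g * H⁻¹ ∈ rad F (colLab (n := n) K.val) := by
    intro g hg
    refine mem_rad.2 fun p l h => ?_
    rw [hent g hg, mem_rad.1 hg p l h]
    by_cases hpK : K ≤ p
    · rw [hu p hpK, zero_mul, add_zero]
    · rw [Finset.sum_eq_zero fun m _ => ?_, mul_zero, add_zero]
      rw [not_le, Fin.lt_def] at hpK
      simp only [colLab, if_pos hpK] at h
      have hl : l.val < K.val := by split_ifs at h <;> omega
      rw [mem_rad.1 hg m l ?_, sub_self, mul_zero]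
      simp [colLab, hl]
  let σ : rad F (colLab (n := n) K.val) → rad F (colLab (n := n) K.val) :=
    fun g => ⟨H * g * H⁻¹, hmem g g.2⟩
  have hσ : Function.Bijective σ := Finite.injective_iff_bijective.1 fun g g' h => by
    have := congrArg Subtype.val h
    exact Subtype.ext (mul_left_cancel (mul_right_cancel this))
  haveI := Fintype.ofFinite (rad F (colLab (n := n) K.val))
  rw [colSum, colSum, sumOn_eq_sum, sumOn_eq_sum]
  refine (Fintype.sum_bijective σ hσ _ _ fun g => ?_).symm
  have htail : tail K.val ((H * g * H⁻¹ : GL (Fin n) F) : Matrix (Fin n) (Fin n) F) =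
      tail K.val ((g : GL (Fin n) F) : Matrix (Fin n) (Fin n) F) := by
    refine Finset.sum_congr rfl fun p _ => Finset.sum_congr rfl fun l _ => ?_
    split_ifs with hpl
    · rw [hent g g.2, hu p (Fin.le_def.2 hpl.1), zero_mul, add_zero]
    · rfl
  have hcol : colVal a ((H * g * H⁻¹ : GL (Fin n) F) : Matrix (Fin n) (Fin n) F) =
      colVal b ((g : GL (Fin n) F) : Matrix (Fin n) (Fin n) F) := by
    have hb' : ∀ p, b.1 p = a.1 p + v p := fun p => by simp [hv]
    simp only [colVal, hent g g.2, mul_add, Finset.sum_add_distrib, ← mul_assoc, ← Finset.sum_mul]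
    rw [show ∑ p, a.1 p * u p = 1 from hau, one_mul]
    simp only [hb', add_mul, Finset.sum_add_distrib, mul_sub, Finset.sum_sub_distrib]
    congr 1
    simp [Matrix.one_apply, hvz K le_rfl]
  simp only [σ]
  rw [hcol, htail, hχ]

theorem colSum_lastFun (χ : GL (Fin n) F → ℂ) {K : Fin n} (hK : 0 < K.val) :
    colSum χ (lastFun K) = sumOn (rad F (colLab (n := n) K.val)) fun g => χ g * conj (psi g) :=
  sumOn_congr fun g hg => by rw [psi_eq_lastFun hK hg]

/-- The average of `χ` against the generic character over the column radical. -/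
noncomputable def genAvg (χ : GL (Fin n) F → ℂ) (k : ℕ) : ℂ :=
  (Nat.card (rad F (colLab (n := n) k)) : ℂ)⁻¹ *
    sumOn (rad F (colLab (n := n) k)) fun g => χ g * conj (psi g)

theorem genAvg_succ {χ : GL (Fin n) F → ℂ} (hχ : Cfsg.IsCharacter (GL (Fin n) F) χ)
    (hc : Cuspidal χ) {k : ℕ} (hk : 0 < k) (hkn : k < n) :
    genAvg χ (k + 1) = ((Fintype.card F : ℂ) ^ k - 1) * genAvg χ k := by
  classical
  obtain ⟨K, rfl⟩ : ∃ K : Fin n, K.val = k := ⟨⟨k, hkn⟩, rfl⟩
  have hsum : ∑ a : Above F K, colSum χ a =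
      ((Fintype.card F ^ K.val : ℕ) : ℂ) *
        sumOn (rad F (colLab (n := n) (K.val + 1))) (fun g => χ g * conj (psi g)) := by
    rw [sumOn_congr (g := fun g => χ g * conj (eChar F (tail K.val (g : Matrix (Fin n) (Fin n) F))))
      (fun g hg => by rw [psi_eq_tail_succ hg]), ← sum_sumOn_colVal]
    refine Finset.sum_congr rfl fun a _ => sumOn_congr fun g _ => ?_
    rw [AddChar.map_add_eq_mul, map_mul]
    ring
  have hne : (lastFun (F := F) K).1 ≠ 0 := fun h => by
    have := congrFun h ⟨K.val - 1, by omega⟩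
    simp [lastFun, show K.val - 1 + 1 = K.val by omega] at this
  obtain ⟨z, hz⟩ : ∃ z : Above F K, z = ⟨0, fun _ _ => rfl⟩ := ⟨_, rfl⟩
  rw [← Finset.add_sum_erase _ _ (Finset.mem_univ z), hz, colSum_zero hχ hc hk, zero_add,
    Finset.sum_congr rfl (fun a ha => colSum_eq (CfsgLib.Char.IsCharacter.isClassFunction hχ)
      (fun h => (Finset.mem_erase.1 ha).1 (Subtype.ext h)) hne),
    Finset.sum_const, Finset.card_erase_of_mem (Finset.mem_univ _), Finset.card_univ,
    ← Nat.card_eq_fintype_card, card_above, nsmul_eq_mul, colSum_lastFun χ hk,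
    Nat.cast_sub (Nat.one_le_pow _ _ Fintype.card_pos), Nat.cast_one] at hsum
  have h1 := card_ne_zero (rad F (colLab (n := n) (K.val + 1)))
  have h2 : ((Fintype.card F ^ K.val : ℕ) : ℂ) ≠ 0 := by
    exact_mod_cast (pow_pos Fintype.card_pos _).ne'
  rw [genAvg, genAvg, card_colRad K]
  push_cast at hsum h2 ⊢
  field_simp
  linear_combination -hsum

/-- Gelfand: the degree of a cuspidal character. -/
theorem cuspidal_degree {χ : GL (Fin n) F → ℂ} (hχ : Cfsg.IsCharacter (GL (Fin n) F) χ)
    (hc : Cuspidal χ) (hn : 0 < n) :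
    χ 1 = (∏ i ∈ Finset.Ico 1 n, ((Fintype.card F : ℂ) ^ i - 1)) *
      ((Nat.card (unip F n) : ℂ)⁻¹ * sumOn (unip F n) fun g => χ g * conj (psi g)) := by
  classical
  have h : ∀ k, 1 ≤ k → k ≤ n →
      genAvg χ k = (∏ i ∈ Finset.Ico 1 k, ((Fintype.card F : ℂ) ^ i - 1)) * genAvg χ 1 := by
    intro k hk
    induction k, hk using Nat.le_induction with
    | base => simp
    | succ k hk ih =>
      intro hkn
      rw [genAvg_succ hχ hc hk (by omega), ih (by omega), Finset.prod_Ico_succ_top hk]
      ring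
  have htop : genAvg χ n = χ 1 := by
    rw [genAvg, colRad_top, Subgroup.card_bot, Nat.cast_one, inv_one, one_mul, sumOn,
      Finset.sum_eq_single (1 : GL (Fin n) F)]
    · rw [psi_one, map_one, mul_one]
    · intro g hg hne
      exact absurd (Subgroup.mem_bot.1 (Finset.mem_filter.1 hg).2) hne
    · simp
  rw [← htop, h n hn le_rfl, genAvg, colRad_one]

end CfsgLib.GLCusp
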