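import Cfsg.Agent.GLCusp.Ops
import Cfsg.Agent.Char.Induction

/-!
# The inner product of two induced functions through double coset representatives
-/

set_option autoImplicit false
set_option linter.unusedSectionVars false

namespace CfsgLib.GLCusp

open scoped ComplexConjugate

universe u

variable {G : Type u} [Group G] [Fintype G]

/-- The stabiliser attached to a double coset `H r K`. -/
def meet (H K : Subgroup G) (r : G) : Subgroup G := H ⊓ K.comap (MulAut.conj r⁻¹).toMonoidHom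

theorem mem_meet {H K : Subgroup G} {r x : G} : x ∈ meet H K r ↔ x ∈ H ∧ r⁻¹ * x * r ∈ K := by
  simp [meet, Subgroup.mem_inf]

/-- The twisted pairing of two functions on subgroups at `y`. -/
noncomputable def twistSum (H K : Subgroup G) (a : H → ℂ) (b : K → ℂ) (y : G) : ℂ :=
  sumOn H fun g => Cfsg.extendByZero H a g * conj (Cfsg.extendByZero K b (y⁻¹ * g * y))

theorem twistSum_eq_meet (H K : Subgroup G) (a : H → ℂ) (b : K → ℂ) (r : G) :
    twistSum H K a b r =
      sumOn (meet H K r) fun g =>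
        Cfsg.extendByZero H a g * conj (Cfsg.extendByZero K b (r⁻¹ * g * r)) := by
  classical
  rw [twistSum, sumOn, sumOn]
  refine (Finset.sum_subset (fun g hg => ?_) fun g hg hg' => ?_).symm
  · simp only [Finset.mem_filter, Finset.mem_univ, true_and] at hg ⊢
    exact (mem_meet.1 hg).1
  · simp only [Finset.mem_filter, Finset.mem_univ, true_and] at hg hg'
    rw [CfsgLib.Char.extendByZero_of_not_mem b fun h => hg' (mem_meet.2 ⟨hg, h⟩), map_zero, mul_zero]

theorem extendByZero_conj {H : Subgroup G} {a : H → ℂ} (ha : Cfsg.IsClassFunction H a) {h : G}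
    (hh : h ∈ H) (g : G) :
    Cfsg.extendByZero H a (h * g * h⁻¹) = Cfsg.extendByZero H a g := by
  classical
  by_cases hg : g ∈ H
  · rw [CfsgLib.Char.extendByZero_of_mem a hg,
      CfsgLib.Char.extendByZero_of_mem a (H.mul_mem (H.mul_mem hh hg) (H.inv_mem hh))]
    exact ha ⟨g, hg⟩ ⟨h, hh⟩
  · rw [CfsgLib.Char.extendByZero_of_not_mem a hg, CfsgLib.Char.extendByZero_of_not_mem a fun hc => hg ?_]
    simpa [mul_assoc] using H.mul_mem (H.mul_mem (H.inv_mem hh) hc) hh

theorem twistSum_mul {H K : Subgroup G} {a : H → ℂ} {b : K → ℂ} (ha : Cfsg.IsClassFunction H a)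
    (hb : Cfsg.IsClassFunction K b) {h k : G} (hh : h ∈ H) (hk : k ∈ K) (y : G) :
    twistSum H K a b (h * y * k) = twistSum H K a b y := by
  classical
  rw [twistSum, twistSum, sumOn, sumOn]
  refine Finset.sum_equiv (MulAut.conj h⁻¹).toEquiv (fun g => ?_) (fun g _ => ?_)
  · simp only [Finset.mem_filter, Finset.mem_univ, true_and, MulEquiv.toEquiv_eq_coe, EquivLike.coe_coe,
      MulAut.conj_apply, inv_inv]
    exact ⟨fun hg => H.mul_mem (H.mul_mem (H.inv_mem hh) hg) hh,
      fun hg => by simpa [mul_assoc] using H.mul_mem (H.mul_mem hh hg) (H.inv_mem hh)⟩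
  · simp only [MulEquiv.toEquiv_eq_coe, EquivLike.coe_coe, MulAut.conj_apply, inv_inv]
    have e1 : Cfsg.extendByZero H a (h⁻¹ * g * h) = Cfsg.extendByZero H a g := by
      simpa using extendByZero_conj ha (H.inv_mem hh) g
    have e2 : (h * y * k)⁻¹ * g * (h * y * k) = k⁻¹ * (y⁻¹ * (h⁻¹ * g * h) * y) * k := by group
    have e3 : ∀ x, Cfsg.extendByZero K b (k⁻¹ * x * k) = Cfsg.extendByZero K b x := fun x => by
      simpa using extendByZero_conj hb (K.inv_mem hk) x
    rw [e1, e2, e3]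

theorem classInner_indFun_indFun (H K : Subgroup G) (a : H → ℂ) (b : K → ℂ) :
    Cfsg.classInner (Cfsg.indFun H a) (Cfsg.indFun K b) =
      (Nat.card H : ℂ)⁻¹ * (Nat.card K : ℂ)⁻¹ * ∑ y : G, twistSum H K a b y := by
  classical
  haveI := Fintype.ofFinite H
  rw [CfsgLib.Char.classInner_indFun a (CfsgLib.Char.isClassFunction_indFun K b),
    CfsgLib.Char.classInner_def, mul_assoc]
  congr 1
  simp only [CfsgLib.Char.indFun_def, map_mul, map_inv₀, map_natCast, map_sum, twistSum]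
  rw [Finset.mul_sum, Finset.sum_congr rfl fun (y : G) _ => by rw [sumOn_eq_sum, Finset.mul_sum]]
  rw [Finset.sum_comm]
  refine Finset.sum_congr rfl fun g _ => ?_
  rw [CfsgLib.Char.extendByZero_apply, mul_left_comm, Finset.mul_sum, Finset.mul_sum]

open scoped Classical in
/-- The fibres of the multiplication map onto a double coset. -/
theorem card_fiber (H K : Subgroup G) [Fintype H] [Fintype K] (r : G) {h₀ k₀ : G} (hh : h₀ ∈ H)
    (hk : k₀ ∈ K) :
    (Finset.univ.filter fun p : H × K => (p.1 : G) * r * p.2 = h₀ * r * k₀).card =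
      Nat.card (meet H K r) := by
  haveI := Fintype.ofFinite (meet H K r)
  rw [Nat.card_eq_fintype_card, ← Finset.card_univ]
  refine (Finset.card_bij (fun (s : meet H K r) _ =>
    ((⟨h₀ * s, H.mul_mem hh (mem_meet.1 s.2).1⟩ : H),
      (⟨(r⁻¹ * s * r)⁻¹ * k₀, K.mul_mem (K.inv_mem (mem_meet.1 s.2).2) hk⟩ : K)))
    (fun s _ => ?_) (fun s _ s' _ h => ?_) fun p hp => ?_).symm
  · simp only [Finset.mem_filter, Finset.mem_univ, true_and]
    group
  · exact Subtype.ext (mul_left_cancel (congrArg Subtype.val (congrArg Prod.fst h)))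
  · simp only [Finset.mem_filter, Finset.mem_univ, true_and] at hp
    have h1 : r⁻¹ * (h₀⁻¹ * p.1) * r = k₀ * (p.2 : G)⁻¹ := by
      calc r⁻¹ * (h₀⁻¹ * p.1) * r = r⁻¹ * h₀⁻¹ * ((p.1 : G) * r * p.2) * (p.2 : G)⁻¹ := by group
        _ = k₀ * (p.2 : G)⁻¹ := by rw [hp]; group
    refine ⟨⟨h₀⁻¹ * p.1, mem_meet.2 ⟨H.mul_mem (H.inv_mem hh) p.1.2, h1 ▸ K.mul_mem hk (K.inv_mem p.2.2)⟩⟩,
      Finset.mem_univ _, Prod.ext (Subtype.ext ?_) (Subtype.ext ?_)⟩
    · simp
    · change (r⁻¹ * (h₀⁻¹ * (p.1 : G)) * r)⁻¹ * k₀ = p.2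
      rw [h1]
      group

/-- Mackey's formula for the inner product, over the double cosets that matter. -/
theorem classInner_ind_ind {H K : Subgroup G} {a : H → ℂ} {b : K → ℂ} (ha : Cfsg.IsClassFunction H a)
    (hb : Cfsg.IsClassFunction K b) (R : Finset G)
    (hcover : ∀ y, twistSum H K a b y ≠ 0 → ∃ r ∈ R, ∃ h ∈ H, ∃ k ∈ K, y = h * r * k)
    (hsep : ∀ r ∈ R, ∀ r' ∈ R, ∀ h ∈ H, ∀ k ∈ K, r' = h * r * k → r = r') :
    Cfsg.classInner (Cfsg.indFun H a) (Cfsg.indFun K b) =
      ∑ r ∈ R, (Nat.card (meet H K r) : ℂ)⁻¹ * sumOn (meet H K r) fun g =>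
        Cfsg.extendByZero H a g * conj (Cfsg.extendByZero K b (r⁻¹ * g * r)) := by
  classical
  haveI := Fintype.ofFinite H
  haveI := Fintype.ofFinite K
  obtain ⟨D, hD⟩ : ∃ D : G → Finset G, D = fun r =>
      (Finset.univ : Finset (H × K)).image fun p => (p.1 : G) * r * p.2 := ⟨_, rfl⟩
  have hmemD : ∀ r y, y ∈ D r ↔ ∃ h ∈ H, ∃ k ∈ K, y = h * r * k := fun r y => by
    simp only [hD, Finset.mem_image, Finset.mem_univ, true_and, Prod.exists, Subtype.exists]
    constructor
    · rintro ⟨h, hh, k, hk, rfl⟩; exact ⟨h, hh, k, hk, rfl⟩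
    · rintro ⟨h, hh, k, hk, rfl⟩; exact ⟨h, hh, k, hk, rfl⟩
  have hdisj : (R : Set G).PairwiseDisjoint D := by
    intro r hr r' hr' hne
    refine Finset.disjoint_left.2 fun y hy hy' => hne ?_
    obtain ⟨h, hh, k, hk, rfl⟩ := (hmemD r y).1 hy
    obtain ⟨h', hh', k', hk', he⟩ := (hmemD r' _).1 hy'
    refine hsep r hr r' hr' (h'⁻¹ * h) (H.mul_mem (H.inv_mem hh') hh) (k * k'⁻¹)
      (K.mul_mem hk (K.inv_mem hk')) ?_
    calc r' = h'⁻¹ * (h' * r' * k') * k'⁻¹ := by group
      _ = h'⁻¹ * h * r * (k * k'⁻¹) := by rw [← he]; group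
  have hT : ∑ y : G, twistSum H K a b y = ∑ y ∈ R.biUnion D, twistSum H K a b y := by
    refine (Finset.sum_subset (Finset.subset_univ _) fun y _ hy => ?_).symm
    by_contra hne
    obtain ⟨r, hr, hy'⟩ := hcover y hne
    exact hy (Finset.mem_biUnion.2 ⟨r, hr, (hmemD r y).2 hy'⟩)
  rw [classInner_indFun_indFun, hT, Finset.sum_biUnion hdisj, Finset.mul_sum]
  refine Finset.sum_congr rfl fun r hr => ?_
  rw [← twistSum_eq_meet]
  have hconst : ∀ y ∈ D r, twistSum H K a b y = twistSum H K a b r := fun y hy => by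
    obtain ⟨h, hh, k, hk, rfl⟩ := (hmemD r y).1 hy
    exact twistSum_mul ha hb hh hk r
  rw [Finset.sum_congr rfl hconst, Finset.sum_const, nsmul_eq_mul]
  have hcount : (Nat.card H : ℂ) * (Nat.card K : ℂ) = ((D r).card : ℂ) * (Nat.card (meet H K r) : ℂ) := by
    have := Finset.card_eq_sum_card_image (fun p : H × K => (p.1 : G) * r * p.2) Finset.univ
    rw [Finset.card_univ, Fintype.card_prod, ← Nat.card_eq_fintype_card, ← Nat.card_eq_fintype_card,
      Finset.sum_congr rfl (g := fun _ => Nat.card (meet H K r)) (fun y hy => ?_), Finset.sum_const,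
      smul_eq_mul] at this
    · rw [hD]
      exact_mod_cast this
    · obtain ⟨p, -, rfl⟩ := Finset.mem_image.1 hy
      exact card_fiber H K r p.1.2 p.2.2
  have h1 := card_ne_zero (meet H K r)
  have h2 := card_ne_zero H
  have h3 := card_ne_zero K
  field_simp
  rw [hcount]
  ring

end CfsgLib.GLCusp
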