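import Cfsg.Agent.GLCusp.Hecke
import Cfsg.Agent.GLCusp.Pair
import Cfsg.Agent.GLCusp.Degree
import Cfsg.Agent.Char.Orthogonality

/-!
# The number of generic irreducible characters
-/

set_option autoImplicit false
set_option linter.unusedSectionVars false

namespace CfsgLib.GLCusp

open scoped MatrixGroups ComplexConjugate

universe u

variable {F : Type u} [Field F] [Fintype F] [DecidableEq F] {n : ℕ}

/-- The generic character on the unitriangular group. -/
noncomputable def psiU (F : Type u) [Field F] [Fintype F] [DecidableEq F] (n : ℕ) : unip F n → ℂ :=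
  fun u => psi (u : GL (Fin n) F)

/-- The generic character of the unitriangular group as a homomorphism. -/
noncomputable def psiHom (F : Type u) [Field F] [Fintype F] [DecidableEq F] (n : ℕ) :
    unip F n →* ℂˣ where
  toFun u := Units.mk0 (psi (u : GL (Fin n) F)) (left_ne_zero_of_mul_eq_one (psi_mul_conj _))
  map_one' := Units.ext (by simp [psi_one])
  map_mul' a b := Units.ext (by simp [psi_mul a.2 b.2])

theorem isCharacter_psiU : Cfsg.IsCharacter (unip F n) (psiU F n) :=
  CfsgLib.Char.isCharacter_ofHom (psiHom F n)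

theorem extendByZero_psiU {g : GL (Fin n) F} (hg : g ∈ unip F n) :
    Cfsg.extendByZero (unip F n) (psiU F n) g = psi g := by
  rw [CfsgLib.Char.extendByZero_of_mem _ hg]
  rfl

/-- The Gelfand-Graev character. -/
noncomputable def gelfandGraev (F : Type u) [Field F] [Fintype F] [DecidableEq F] (n : ℕ) :
    GL (Fin n) F → ℂ := Cfsg.indFun (unip F n) (psiU F n)

theorem isCharacter_gelfandGraev : Cfsg.IsCharacter (GL (Fin n) F) (gelfandGraev F n) :=
  CfsgLib.Char.IsCharacter.indFun isCharacter_psiU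

theorem classInner_gelfandGraev {χ : GL (Fin n) F → ℂ}
    (hχ : Cfsg.IsClassFunction (GL (Fin n) F) χ) :
    Cfsg.classInner χ (gelfandGraev F n) = genMult χ := by
  haveI := Fintype.ofFinite (unip F n)
  rw [gelfandGraev, CfsgLib.Char.classInner_indFun_right hχ, CfsgLib.Char.classInner_def, genMult,
    sumOn_eq_sum]
  rfl

theorem gelfandGraev_self {m : ℕ} :
    Cfsg.classInner (gelfandGraev F (m + 1)) (gelfandGraev F (m + 1)) =
      (((Fintype.card F - 1) * Fintype.card F ^ m : ℕ) : ℂ) := by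
  classical
  obtain ⟨M, hM⟩ : ∃ M : Equiv.Perm (Fin (m + 1)) × (Fin (m + 1) → Fˣ) → GL (Fin (m + 1)) F,
      M = fun p => mono p.1 p.2 := ⟨_, rfl⟩
  have hinj : Function.Injective M := by
    intro p p' h
    simp only [hM] at h
    obtain ⟨h1, h2⟩ := mono_unique (one_mem (unip F (m + 1))) (one_mem (unip F (m + 1)))
      (π' := p'.1) (t' := p'.2) (π := p.1) (t := p.2) (by rw [one_mul, mul_one, h])
    exact Prod.ext h1 h2
  rw [gelfandGraev, classInner_ind_ind (CfsgLib.Char.IsCharacter.isClassFunction isCharacter_psiU)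
    (CfsgLib.Char.IsCharacter.isClassFunction isCharacter_psiU)
    ((Finset.univ.filter fun p => Relevant p.1 p.2).image M)]
  · rw [Finset.sum_image fun a _ b _ h => hinj h, Finset.sum_congr rfl (g := fun _ => (1 : ℂ))]
    · rw [Finset.sum_const, nsmul_eq_mul, mul_one, ← Fintype.card_subtype, ← Nat.card_eq_fintype_card,
        card_relevant, Fintype.card_units, Nat.sub_add_cancel Fintype.card_pos]
    · intro p hp
      have hrel := (Finset.mem_filter.1 hp).2
      rw [sumOn_congr (g := fun _ => (1 : ℂ)) fun g hg => ?_, sumOn_const, mul_one,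
        inv_mul_cancel₀ (card_ne_zero _)]
      obtain ⟨h1, h2⟩ := mem_meet.1 hg
      simp only [hM] at h2 ⊢
      rw [extendByZero_psiU h1, extendByZero_psiU h2, hrel.psi_conj h1 h2, psi_mul_conj]
  · intro y hy
    obtain ⟨u, hu, v, hv, π, t, rfl⟩ := exists_unip_mono y
    refine ⟨mono π t, Finset.mem_image.2 ⟨(π, t), Finset.mem_filter.2 ⟨Finset.mem_univ _, ?_⟩, by rw [hM]⟩,
      u, hu, v, hv, rfl⟩
    rw [twistSum_mul (CfsgLib.Char.IsCharacter.isClassFunction isCharacter_psiU)
      (CfsgLib.Char.IsCharacter.isClassFunction isCharacter_psiU) hu hv, twistSum_eq_meet] at hy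
    by_contra hrel
    obtain ⟨x, hx, hx', hne⟩ := exists_witness hrel
    refine hy (sumOn_eq_zero_of_translate (mem_meet.2 ⟨hx, hx'⟩)
      (c := psi x * conj (psi ((mono π t)⁻¹ * x * mono π t))) (fun h1 => hne ?_) fun g hg => ?_)
    · have := congrArg (fun z => z * psi ((mono π t)⁻¹ * x * mono π t)) h1
      simp only [one_mul, mul_assoc] at this
      rw [mul_comm (conj _), psi_mul_conj, mul_one] at this
      simpa only [mul_assoc] using this.symm
    · obtain ⟨h1, h2⟩ := mem_meet.1 hg
      have e : (mono π t)⁻¹ * (x * g) * mono π t =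
          ((mono π t)⁻¹ * x * mono π t) * ((mono π t)⁻¹ * g * mono π t) := by group
      rw [e, extendByZero_psiU (mul_mem hx h1), extendByZero_psiU (mul_mem hx' h2), extendByZero_psiU h1,
        extendByZero_psiU h2, psi_mul hx h1, psi_mul hx' h2, map_mul]
      ring
  · intro r hr r' hr' h hh k hk he
    obtain ⟨p, -, rfl⟩ := Finset.mem_image.1 hr
    obtain ⟨p', -, rfl⟩ := Finset.mem_image.1 hr'
    simp only [hM] at he ⊢
    obtain ⟨h1, h2⟩ := mono_unique hh hk he
    rw [h1, h2]

/-- The generic irreducible characters. -/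
abbrev GenIrr (F : Type u) [Field F] [Fintype F] [DecidableEq F] (n : ℕ) : Type u :=
  {χ : Cfsg.IrrCharacter (GL (Fin n) F) // genMult (χ : GL (Fin n) F → ℂ) = 1}

theorem card_genIrr {m : ℕ} :
    Nat.card (GenIrr F (m + 1)) = (Fintype.card F - 1) * Fintype.card F ^ m := by
  classical
  have h1 := gelfandGraev_self (F := F) (m := m)
  rw [CfsgLib.Char.classInner_eq_sum_irr
    (CfsgLib.Char.IsCharacter.isClassFunction isCharacter_gelfandGraev)] at h1
  have hterm : ∀ χ ∈ CfsgLib.Char.irrFinset (GL (Fin (m + 1)) F),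
      Cfsg.classInner (gelfandGraev F (m + 1)) χ * conj (Cfsg.classInner (gelfandGraev F (m + 1)) χ) =
        if genMult χ = 1 then 1 else 0 := by
    intro χ hχ
    have hχ' := CfsgLib.Char.mem_irrFinset.1 hχ
    rw [← CfsgLib.Char.classInner_conj χ, classInner_gelfandGraev
      (CfsgLib.Char.IsIrrCharacter.isClassFunction hχ')]
    rcases genMult_eq_zero_or_one hχ' with h | h <;> simp [h]
  rw [Finset.sum_congr rfl hterm, Finset.sum_boole, Nat.cast_inj] at h1
  rw [← h1, ← Nat.card_eq_finsetCard]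
  exact Nat.card_congr
    { toFun := fun χ => ⟨χ.1.1, Finset.mem_filter.2 ⟨CfsgLib.Char.mem_irrFinset.2 χ.1.2, χ.2⟩⟩
      invFun := fun χ => ⟨⟨χ.1, CfsgLib.Char.mem_irrFinset.1 (Finset.mem_filter.1 χ.2).1⟩,
        (Finset.mem_filter.1 χ.2).2⟩
      left_inv := fun _ => rfl
      right_inv := fun _ => rfl }

/-- A cuspidal irreducible character is generic. -/
theorem genMult_of_cuspidal {χ : GL (Fin n) F → ℂ} (hχ : Cfsg.IsIrrCharacter (GL (Fin n) F) χ)
    (hc : Cuspidal χ) (hn : 0 < n) : genMult χ = 1 := by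
  refine (genMult_eq_zero_or_one hχ).resolve_left fun h => ?_
  have hd := cuspidal_degree (CfsgLib.Char.IsIrrCharacter.isCharacter hχ) hc hn
  rw [← genMult, h, mul_zero] at hd
  exact CfsgLib.Char.IsIrrCharacter.apply_one_ne_zero hχ hd

theorem cuspidal_irr_degree {χ : GL (Fin n) F → ℂ} (hχ : Cfsg.IsIrrCharacter (GL (Fin n) F) χ)
    (hc : Cuspidal χ) (hn : 0 < n) :
    χ 1 = ∏ i ∈ Finset.Ico 1 n, ((Fintype.card F : ℂ) ^ i - 1) := by
  rw [cuspidal_degree (CfsgLib.Char.IsIrrCharacter.isCharacter hχ) hc hn, ← genMult,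
    genMult_of_cuspidal hχ hc hn, mul_one]

end CfsgLib.GLCusp
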