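import Mathlib.LinearAlgebra.Matrix.Block
import Mathlib.LinearAlgebra.Matrix.NonsingularInverse
import Mathlib.LinearAlgebra.Matrix.GeneralLinearGroup.Defs
import Mathlib.LinearAlgebra.Matrix.Transvection
import Mathlib.NumberTheory.LegendreSymbol.Complex
import Mathlib.GroupTheory.OrderOfElement
import Cfsg.Agent.GLn.Bruhat

/-!
# Unipotent radicals for labellings of the coordinates, and the generic character
-/

set_option autoImplicit false
set_option linter.unusedSectionVars false

namespace CfsgLib.GLCusp

open Matrix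
open scoped MatrixGroups

universe u v

variable {F : Type u} [Field F] [Fintype F] [DecidableEq F] {n : ℕ} {α : Type v} [LinearOrder α]

/-- The block upper triangular matrices for a labelling. -/
def parab (F : Type u) [Field F] (f : Fin n → α) : Subgroup (GL (Fin n) F) where
  carrier := {g | (g : Matrix (Fin n) (Fin n) F).BlockTriangular f}
  mul_mem' := fun {a} {b} ha hb => by
    change ((a : Matrix (Fin n) (Fin n) F) * (b : Matrix (Fin n) (Fin n) F)).BlockTriangular f
    exact Matrix.BlockTriangular.mul ha hb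
  one_mem' := by
    change (1 : Matrix (Fin n) (Fin n) F).BlockTriangular f
    exact Matrix.blockTriangular_one
  inv_mem' := fun {a} ha => by
    change ((a⁻¹ : GL (Fin n) F) : Matrix (Fin n) (Fin n) F).BlockTriangular f
    have : Invertible (a : Matrix (Fin n) (Fin n) F) := a.invertible
    rw [Matrix.coe_units_inv]
    exact Matrix.blockTriangular_inv_of_blockTriangular ha

theorem mem_parab {f : Fin n → α} {g : GL (Fin n) F} :
    g ∈ parab F f ↔ ∀ i j, f j < f i → g i j = 0 :=
  ⟨fun h i j hij => h hij, fun h i j hij => h i j hij⟩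

/-- The unipotent matrices supported strictly above the diagonal of a labelling. -/
def radMonoid (F : Type u) [Field F] (f : Fin n → α) : Submonoid (GL (Fin n) F) where
  carrier := {g | ∀ i j, f j ≤ f i → g i j = (1 : Matrix (Fin n) (Fin n) F) i j}
  one_mem' := fun _ _ _ => by simp
  mul_mem' := fun {a} {b} ha hb i j hij => by
    change ((a : Matrix (Fin n) (Fin n) F) * (b : Matrix (Fin n) (Fin n) F)) i j = _
    rw [Matrix.mul_apply, Finset.sum_eq_single i]
    · rw [ha i i le_rfl, Matrix.one_apply_eq, one_mul, hb i j hij]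
    · intro l _ hl
      by_cases h : f l ≤ f i
      · rw [ha i l h, Matrix.one_apply_ne (Ne.symm hl), zero_mul]
      · push Not at h
        have hjl : f j < f l := lt_of_le_of_lt hij h
        have hne : l ≠ j := fun e => (ne_of_lt hjl) (by rw [e])
        rw [hb l j hjl.le, Matrix.one_apply_ne hne, mul_zero]
    · simp

/-- The unipotent radical of a labelling, as a subgroup. -/
def rad (F : Type u) [Field F] [Finite F] (f : Fin n → α) : Subgroup (GL (Fin n) F) :=
  { radMonoid F f with
    inv_mem' := fun {g} hg => by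
      haveI := Fintype.ofFinite F
      haveI : Finite (GL (Fin n) F) := Finite.of_injective (fun g => (g : Matrix (Fin n) (Fin n) F))
        (fun _ _ h => Units.ext h)
      have hg' : g ∈ radMonoid F f := hg
      exact Submonoid.powers_le.2 hg' (mem_powers_iff_mem_zpowers.2 (inv_mem (Subgroup.mem_zpowers g))) }

theorem mem_rad {f : Fin n → α} {g : GL (Fin n) F} :
    g ∈ rad F f ↔ ∀ i j, f j ≤ f i → g i j = (1 : Matrix (Fin n) (Fin n) F) i j := Iff.rfl

theorem rad_le_parab (f : Fin n → α) : rad F f ≤ parab F f := fun g hg => mem_parab.2 fun i j hij => by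
  rw [mem_rad.1 hg i j hij.le, Matrix.one_apply_ne fun e => (ne_of_lt hij) (by rw [e])]

/-- The upper unitriangular group. -/
abbrev unip (F : Type u) [Field F] [Finite F] (n : ℕ) : Subgroup (GL (Fin n) F) := rad F (id : Fin n → Fin n)

theorem mem_unip {g : GL (Fin n) F} :
    g ∈ unip F n ↔ ∀ i j : Fin n, j ≤ i → g i j = (1 : Matrix (Fin n) (Fin n) F) i j := Iff.rfl

theorem unip_diag {g : GL (Fin n) F} (hg : g ∈ unip F n) (i : Fin n) : g i i = 1 := by
  rw [mem_unip.1 hg i i le_rfl, Matrix.one_apply_eq]

theorem unip_lower {g : GL (Fin n) F} (hg : g ∈ unip F n) {i j : Fin n} (h : j < i) : g i j = 0 := by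
  rw [mem_unip.1 hg i j h.le, Matrix.one_apply_ne h.ne']

/-! ### The additive character and the generic character -/

/-- A primitive additive character of `F`. -/
noncomputable def eChar (F : Type u) [Field F] [Finite F] : AddChar F ℂ :=
  AddChar.FiniteField.primitiveChar_to_Complex F

theorem eChar_ne_one {c : F} (hc : c ≠ 0) : ∃ x, eChar F (c * x) ≠ 1 :=
  by
  by_contra! h
  exact (AddChar.FiniteField.primitiveChar_to_Complex_isPrimitive F) hc
    (DFunLike.ext _ _ fun x => (h x).trans (AddChar.one_apply x).symm)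

theorem exists_eChar_ne {a b : F} (h : a ≠ b) : ∃ x, eChar F (a * x) ≠ eChar F (b * x) := by
  obtain ⟨x, hx⟩ := eChar_ne_one (sub_ne_zero.2 h)
  refine ⟨x, fun he => hx ?_⟩
  rw [sub_mul, sub_eq_add_neg, AddChar.map_add_eq_mul, he, ← AddChar.map_add_eq_mul, add_neg_cancel,
    AddChar.map_zero_eq_one]

theorem conj_eChar (a : F) : (starRingEnd ℂ) (eChar F a) = eChar F (-a) :=
  (AddChar.map_neg_eq_conj _ _).symm

/-- The sum of the entries just above the diagonal. -/
def superSum (g : Matrix (Fin n) (Fin n) F) : F :=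
  ∑ i : Fin n, ∑ j : Fin n, if j.val = i.val + 1 then g i j else 0

/-- The generic character. -/
noncomputable def psi (g : GL (Fin n) F) : ℂ := eChar F (superSum (g : Matrix (Fin n) (Fin n) F))

theorem psi_one : psi (1 : GL (Fin n) F) = 1 := by
  have : superSum ((1 : GL (Fin n) F) : Matrix (Fin n) (Fin n) F) = 0 := by
    refine Finset.sum_eq_zero fun i _ => Finset.sum_eq_zero fun j _ => ?_
    split_ifs with h
    · exact Matrix.one_apply_ne fun e => by rw [e] at h; omega
    · rfl
  rw [psi, this, AddChar.map_zero_eq_one]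

theorem mul_super {a b : GL (Fin n) F} (ha : a ∈ unip F n) (hb : b ∈ unip F n) {i j : Fin n}
    (hij : j.val = i.val + 1) : (a * b) i j = a i j + b i j := by
  change ((a : Matrix (Fin n) (Fin n) F) * (b : Matrix (Fin n) (Fin n) F)) i j = _
  have hne : i ≠ j := fun e => by rw [e] at hij; omega
  rw [Matrix.mul_apply, ← Finset.sum_subset (Finset.subset_univ ({i, j} : Finset (Fin n))),
    Finset.sum_pair hne]
  · rw [unip_diag ha, unip_diag hb, one_mul, mul_one, add_comm]
  · intro l _ hl
    simp only [Finset.mem_insert, Finset.mem_singleton, not_or] at hl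
    rcases lt_or_gt_of_ne hl.1 with h | h
    · rw [unip_lower ha h, zero_mul]
    · have h2 : j < l := by
        rcases lt_or_gt_of_ne hl.2 with h' | h'
        · exfalso
          rw [Fin.lt_def] at h h'
          omega
        · exact h'
      rw [unip_lower hb h2, mul_zero]

theorem psi_mul {a b : GL (Fin n) F} (ha : a ∈ unip F n) (hb : b ∈ unip F n) :
    psi (a * b) = psi a * psi b := by
  rw [psi, psi, psi, ← AddChar.map_add_eq_mul]
  congr 1
  simp only [superSum]
  rw [← Finset.sum_add_distrib]
  refine Finset.sum_congr rfl fun i _ => ?_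
  rw [← Finset.sum_add_distrib]
  refine Finset.sum_congr rfl fun j _ => ?_
  split_ifs with h
  · exact mul_super ha hb h
  · rw [add_zero]

theorem conj_psi_inv {a : GL (Fin n) F} (ha : a ∈ unip F n) :
    (starRingEnd ℂ) (psi a) = psi a⁻¹ := by
  have h1 : psi a * psi a⁻¹ = 1 := by rw [← psi_mul ha (inv_mem ha), mul_inv_cancel, psi_one]
  have h2 : psi a * (starRingEnd ℂ) (psi a) = 1 := by
    rw [psi, conj_eChar, ← AddChar.map_add_eq_mul, add_neg_cancel, AddChar.map_zero_eq_one]
  exact mul_left_cancel₀ (left_ne_zero_of_mul_eq_one h1) (h2.trans h1.symm)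

/-! ### Elementary matrices -/

/-- `1 + c E_ij`. -/
def root (i j : Fin n) (hij : i ≠ j) (c : F) : GL (Fin n) F :=
  Matrix.GeneralLinearGroup.mkOfDetNeZero (Matrix.transvection i j c)
    (by rw [Matrix.det_transvection_of_ne i j hij c]; exact one_ne_zero)

theorem root_apply (i j : Fin n) (hij : i ≠ j) (c : F) (k l : Fin n) :
    root i j hij c k l = (1 : Matrix (Fin n) (Fin n) F) k l + if i = k ∧ j = l then c else 0 := by
  change Matrix.transvection i j c k l = _
  simp [Matrix.transvection, Matrix.single_apply]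

theorem root_mem_rad {f : Fin n → α} {i j : Fin n} (hij : i ≠ j) (hf : f i < f j) (c : F) :
    root i j hij c ∈ rad F f := mem_rad.2 fun k l hkl => by
  rw [root_apply, if_neg, add_zero]
  rintro ⟨rfl, rfl⟩
  exact not_lt.2 hkl hf

theorem superSum_root (i j : Fin n) (hij : i ≠ j) (c : F) :
    superSum ((root i j hij c : GL (Fin n) F) : Matrix (Fin n) (Fin n) F) =
      if j.val = i.val + 1 then c else 0 := by
  simp only [superSum, root_apply]
  rw [Finset.sum_eq_single i]
  · rw [Finset.sum_eq_single j]
    · simp [hij]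
    · intro l _ hl
      simp only [Ne.symm hl, and_false, if_false, add_zero]
      split_ifs with h
      · exact Matrix.one_apply_ne fun e => by rw [e] at h; omega
      · rfl
    · simp
  · intro k _ hk
    refine Finset.sum_eq_zero fun l _ => ?_
    simp only [Ne.symm hk, false_and, if_false, add_zero]
    split_ifs with h
    · exact Matrix.one_apply_ne fun e => by rw [e] at h; omega
    · rfl
  · simp

/-! ### Monomial matrices -/

/-- The diagonal matrix with given nonzero entries. -/
def diagGL (t : Fin n → Fˣ) : GL (Fin n) F :=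
  ⟨Matrix.diagonal fun i => (t i : F), Matrix.diagonal fun i => ((t i)⁻¹ : Fˣ),
    by simp, by simp⟩

/-- The monomial matrix sending the `i`-th basis column to `t i` times the `π i`-th one. -/
def mono (π : Equiv.Perm (Fin n)) (t : Fin n → Fˣ) : GL (Fin n) F :=
  CfsgLib.GLn.permGL F π * diagGL t

theorem mono_apply (π : Equiv.Perm (Fin n)) (t : Fin n → Fˣ) (k i : Fin n) :
    mono π t k i = if π i = k then (t i : F) else 0 := by
  change ((CfsgLib.GLn.permMat F π) * Matrix.diagonal fun i => (t i : F)) k i = _
  rw [Matrix.mul_diagonal]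
  simp [CfsgLib.GLn.permMat]

theorem mono_mul_apply (π : Equiv.Perm (Fin n)) (t : Fin n → Fˣ) (g : Matrix (Fin n) (Fin n) F)
    (i j : Fin n) : ((mono π t : GL (Fin n) F) * g : Matrix (Fin n) (Fin n) F) (π i) j = t i * g i j := by
  rw [Matrix.mul_apply, Finset.sum_eq_single i]
  · rw [mono_apply, if_pos rfl]
  · intro l _ hl
    rw [mono_apply, if_neg (π.injective.ne hl), zero_mul]
  · simp

theorem mul_mono_apply (π : Equiv.Perm (Fin n)) (t : Fin n → Fˣ) (g : Matrix (Fin n) (Fin n) F)
    (a i : Fin n) : (g * (mono π t : GL (Fin n) F) : Matrix (Fin n) (Fin n) F) a i = g a (π i) * t i := by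
  rw [Matrix.mul_apply, Finset.sum_eq_single (π i)]
  · rw [mono_apply, if_pos rfl]
  · intro l _ hl
    rw [mono_apply, if_neg (Ne.symm hl), mul_zero]
  · simp

/-- Conjugation by a monomial matrix. -/
theorem conj_mono_apply (π : Equiv.Perm (Fin n)) (t : Fin n → Fˣ) (x : GL (Fin n) F) (i j : Fin n) :
    ((mono π t)⁻¹ * x * mono π t) i j = ((t i)⁻¹ : Fˣ) * x (π i) (π j) * t j := by
  obtain ⟨y, hy⟩ : ∃ y, y = (mono π t)⁻¹ * x * mono π t := ⟨_, rfl⟩
  have h : mono π t * y = x * mono π t := by
    rw [hy, ← mul_assoc, mul_inv_cancel_left]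
  have h1 := congrArg (fun g : GL (Fin n) F => g (π i) j) h
  simp only [Units.val_mul] at h1
  rw [mono_mul_apply, mul_mono_apply] at h1
  rw [← hy, mul_assoc, ← h1, ← mul_assoc, ← Units.val_mul, inv_mul_cancel, Units.val_one, one_mul]

theorem conj_perm_apply (π : Equiv.Perm (Fin n)) (x : GL (Fin n) F) (i j : Fin n) :
    ((CfsgLib.GLn.permGL F π)⁻¹ * x * CfsgLib.GLn.permGL F π) i j = x (π i) (π j) := by
  have : mono π (fun _ => (1 : Fˣ)) = CfsgLib.GLn.permGL F π := by
    refine Units.ext (Matrix.ext fun k l => ?_)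
    rw [mono_apply, CfsgLib.GLn.permGL_apply, Units.val_one]
  rw [← this, conj_mono_apply]
  simp

end CfsgLib.GLCusp
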