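import Cfsg.Agent.GLCusp.Relevant
import Cfsg.Agent.GLCusp.Ops
import Cfsg.Agent.Char.Misc

/-!
# Multiplicity one for the generic character of the general linear group
-/

set_option autoImplicit false
set_option linter.unusedSectionVars false

namespace CfsgLib.GLCusp

open Matrix
open scoped MatrixGroups ComplexConjugate
open Module

universe u

variable {F : Type u} [Field F] [Fintype F] [DecidableEq F] {n : ℕ}

/-! ### Bruhat, with the torus in the middle -/

theorem diagGL_apply (t : Fin n → Fˣ) (i j : Fin n) :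
    diagGL t i j = if i = j then (t i : F) else 0 := by
  change Matrix.diagonal (fun i => (t i : F)) i j = _
  rw [Matrix.diagonal_apply]

theorem exists_unip_mul_diag {b : GL (Fin n) F} (hb : b ∈ Cfsg.upperTriangularGL n F) :
    ∃ u ∈ unip F n, ∃ t : Fin n → Fˣ, b = u * diagGL t := by
  have hbt : ∀ i j : Fin n, j < i → b i j = 0 := fun i j h => hb h
  have hdet : (b : Matrix (Fin n) (Fin n) F).det ≠ 0 := (Matrix.GeneralLinearGroup.det_ne_zero b)
  rw [Matrix.det_of_isUpperTriangular hb, Finset.prod_ne_zero_iff] at hdet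
  refine ⟨b * (diagGL fun i => Units.mk0 (b i i) (hdet i (Finset.mem_univ i)))⁻¹, mem_unip.2 fun i j hji => ?_,
    fun i => Units.mk0 (b i i) (hdet i (Finset.mem_univ i)), by rw [inv_mul_cancel_right]⟩
  change ((b : Matrix (Fin n) (Fin n) F) *
    Matrix.diagonal fun i => (((Units.mk0 (b i i) (hdet i (Finset.mem_univ i)))⁻¹ : Fˣ) : F)) i j = _
  rw [Matrix.mul_diagonal]
  rcases lt_or_eq_of_le hji with h | rfl
  · rw [hbt i j h, zero_mul, Matrix.one_apply_ne h.ne']
  · rw [Matrix.one_apply_eq, Units.val_inv_eq_inv_val, Units.val_mk0]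
    exact mul_inv_cancel₀ (hdet j (Finset.mem_univ j))

theorem diag_conj_unip {u : GL (Fin n) F} (hu : u ∈ unip F n) (t : Fin n → Fˣ) :
    (diagGL t)⁻¹ * u * diagGL t ∈ unip F n := by
  have : mono 1 t = diagGL t := by rw [mono, map_one, one_mul]
  refine mem_unip.2 fun i j hji => ?_
  rw [← this, conj_mono_apply, Equiv.Perm.one_apply, Equiv.Perm.one_apply, mem_unip.1 hu i j hji]
  by_cases h : i = j
  · subst h; rw [Matrix.one_apply_eq, mul_one, ← Units.val_mul, inv_mul_cancel, Units.val_one]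
  · rw [Matrix.one_apply_ne h, mul_zero, zero_mul]

theorem diag_mul_perm (t : Fin n → Fˣ) (π : Equiv.Perm (Fin n)) :
    diagGL t * CfsgLib.GLn.permGL F π = mono π fun i => t (π i) := by
  refine Units.ext (Matrix.ext fun i j => ?_)
  rw [mono_apply]
  change (Matrix.diagonal (fun i => (t i : F)) * CfsgLib.GLn.permMat F π) i j = _
  rw [Matrix.diagonal_mul]
  simp only [CfsgLib.GLn.permMat, Matrix.of_apply]
  split_ifs with h
  · rw [mul_one, h]
  · rw [mul_zero]

theorem mono_mul_diag (π : Equiv.Perm (Fin n)) (t t' : Fin n → Fˣ) :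
    mono π t * diagGL t' = mono π fun i => t i * t' i := by
  refine Units.ext (Matrix.ext fun i j => ?_)
  rw [mono_apply]
  change ((mono π t : GL (Fin n) F) * Matrix.diagonal fun i => (t' i : F) : Matrix (Fin n) (Fin n) F) i j = _
  rw [Matrix.mul_diagonal, mono_apply, Units.val_mul]
  split_ifs <;> simp

/-- Bruhat: every matrix is unipotent times monomial times unipotent. -/
theorem exists_unip_mono (g : GL (Fin n) F) :
    ∃ u ∈ unip F n, ∃ v ∈ unip F n, ∃ π t, g = u * mono π t * v := by
  obtain ⟨s, b, hb, c, hc, rfl⟩ := CfsgLib.GLn.exists_bruhat g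
  obtain ⟨u, hu, t, rfl⟩ := exists_unip_mul_diag hb
  obtain ⟨v, hv, t', rfl⟩ := exists_unip_mul_diag hc
  refine ⟨u, hu, (diagGL t')⁻¹ * v * diagGL t', diag_conj_unip hv t', s, fun i => t (s i) * t' i, ?_⟩
  rw [← mono_mul_diag, ← diag_mul_perm]
  group

/-- The monomial part is determined by the double coset. -/
theorem mono_unique {π π' : Equiv.Perm (Fin n)} {t t' : Fin n → Fˣ} {u v : GL (Fin n) F}
    (hu : u ∈ unip F n) (hv : v ∈ unip F n) (h : mono π' t' = u * mono π t * v) : π = π' ∧ t = t' := by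
  have h' : u * mono π t = mono π' t' * v⁻¹ := by rw [h, mul_inv_cancel_right]
  have key : ∀ i, π'.symm (π i) ≤ i ∧ (t i : F) = t' (π'.symm (π i)) * (v⁻¹ : GL (Fin n) F) (π'.symm (π i)) i := by
    intro i
    have := congrArg (fun g : GL (Fin n) F => g (π i) i) h'
    simp only [Units.val_mul] at this
    rw [mul_mono_apply, unip_diag hu, one_mul,
      show π i = π' (π'.symm (π i)) from (π'.apply_symm_apply _).symm, mono_mul_apply] at this
    refine ⟨not_lt.1 fun hlt => ?_, this⟩
    rw [unip_lower (inv_mem hv) hlt, mul_zero] at this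
    exact (t i).ne_zero this
  have heq : ∀ i, π'.symm (π i) = i := by
    intro i
    have hs : ∑ j, ((π'.symm (π j)).val) = ∑ j : Fin n, j.val :=
      Equiv.sum_comp (π.trans π'.symm) fun j : Fin n => j.val
    refine Fin.ext (((Finset.sum_eq_sum_iff_of_le fun j _ => ?_).1 hs) i (Finset.mem_univ i))
    exact (key j).1
  refine ⟨Equiv.ext fun i => (Equiv.symm_apply_eq _).1 (heq i), funext fun i => Units.ext ?_⟩
  have := (key i).2
  rw [heq, unip_diag (inv_mem hv), mul_one] at this
  exact this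

/-! ### The flip -/

/-- Transposition along the antidiagonal. -/
def flipMat (g : Matrix (Fin n) (Fin n) F) : Matrix (Fin n) (Fin n) F :=
  Matrix.of fun i j => g j.rev i.rev

theorem flipMat_mul (g h : Matrix (Fin n) (Fin n) F) : flipMat (g * h) = flipMat h * flipMat g := by
  ext i j
  simp only [flipMat, Matrix.of_apply, Matrix.mul_apply]
  exact Fintype.sum_equiv Fin.revPerm _ _ fun l => by simp [mul_comm]

theorem flipMat_one : flipMat (1 : Matrix (Fin n) (Fin n) F) = 1 := by
  ext i j
  simp [flipMat, Matrix.one_apply, Fin.rev_inj, eq_comm]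

/-- The antiautomorphism of the general linear group. -/
def flipGL (g : GL (Fin n) F) : GL (Fin n) F :=
  ⟨flipMat g, flipMat (g⁻¹ : GL (Fin n) F),
    by rw [← flipMat_mul, ← Units.val_mul, inv_mul_cancel, Units.val_one, flipMat_one],
    by rw [← flipMat_mul, ← Units.val_mul, mul_inv_cancel, Units.val_one, flipMat_one]⟩

theorem flipGL_apply (g : GL (Fin n) F) (i j : Fin n) : flipGL g i j = g j.rev i.rev := rfl

theorem flipGL_mul (g h : GL (Fin n) F) : flipGL (g * h) = flipGL h * flipGL g :=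
  Units.ext (flipMat_mul _ _)

theorem flipGL_flipGL (g : GL (Fin n) F) : flipGL (flipGL g) = g :=
  Units.ext (Matrix.ext fun i j => by simp [flipGL_apply])

theorem flipGL_mem_unip {g : GL (Fin n) F} (hg : g ∈ unip F n) : flipGL g ∈ unip F n :=
  mem_unip.2 fun i j hji => by
    rw [flipGL_apply, mem_unip.1 hg _ _ (Fin.rev_le_rev.2 hji)]
    simp [Matrix.one_apply, Fin.rev_inj, eq_comm]

theorem psi_flipGL (g : GL (Fin n) F) : psi (flipGL g) = psi g := by
  rw [psi, psi]
  congr 1
  simp only [superSum, flipGL_apply]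
  rw [Finset.sum_comm]
  refine Fintype.sum_equiv Fin.revPerm _ _ fun j => Fintype.sum_equiv Fin.revPerm _ _ fun i => ?_
  simp only [Fin.revPerm_apply, Fin.val_rev]
  have := i.isLt; have := j.isLt
  split_ifs <;> first | rfl | omega

theorem Relevant.flip_mono {π : Equiv.Perm (Fin n)} {t : Fin n → Fˣ} (h : Relevant π t) :
    flipGL (mono π t) = mono π t := by
  refine Units.ext (Matrix.ext fun i j => ?_)
  rw [flipGL_apply, mono_apply, mono_apply]
  obtain ⟨h1, h2⟩ := h.flip_fix j
  by_cases hij : π j = i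
  · subst hij
    rw [if_pos rfl, if_pos h1, h2]
  · rw [if_neg hij, if_neg]
    intro he
    refine hij ?_
    have : (π j).rev = i.rev := π.injective (h1.trans he.symm)
    exact Fin.rev_inj.1 this

/-! ### The generic character on relevant and irrelevant matrices -/

theorem Relevant.psi_conj {π : Equiv.Perm (Fin n)} {t : Fin n → Fˣ} (h : Relevant π t) {x : GL (Fin n) F}
    (hx : x ∈ unip F n) (hy : (mono π t)⁻¹ * x * mono π t ∈ unip F n) :
    psi ((mono π t)⁻¹ * x * mono π t) = psi x := by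
  rw [psi, psi]
  congr 1
  have e : superSum (x : Matrix (Fin n) (Fin n) F) =
      ∑ i : Fin n, ∑ j : Fin n, if (π j).val = (π i).val + 1 then x (π i) (π j) else 0 := by
    rw [superSum]
    refine (Fintype.sum_equiv π _ _ fun i => ?_).symm
    exact Fintype.sum_equiv π _ (fun j => if j.val = (π i).val + 1 then x (π i) j else 0) fun j => rfl
  rw [e, superSum]
  refine Finset.sum_congr rfl fun i _ => Finset.sum_congr rfl fun j _ => ?_
  rcases eq_or_ne i j with rfl | hne
  · simp
  have hy' := conj_mono_apply π t x i j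
  by_cases hij : i < j
  · by_cases hp : π i < π j
    · obtain ⟨h1, h2⟩ := h i j hij hp
      split_ifs with a b b
      · rw [hy', h2 a, mul_comm, ← mul_assoc, ← Units.val_mul, mul_inv_cancel, Units.val_one, one_mul]
      · exact absurd (h1.2 a) b
      · exact absurd (h1.1 b) a
      · rfl
    · have hp' : π j < π i := lt_of_le_of_ne (not_lt.1 hp) (π.injective.ne hne.symm)
      rw [unip_lower hx hp', mul_zero, zero_mul] at hy'
      rw [hy', unip_lower hx hp']
      simp
  · have hji : j < i := lt_of_le_of_ne (not_lt.1 hij) hne.symm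
    have h0 : x (π i) (π j) = 0 := by
      have := hy'.symm.trans (unip_lower hy hji)
      simpa using this
    rw [h0, unip_lower hy hji]
    simp

theorem exists_witness {π : Equiv.Perm (Fin n)} {t : Fin n → Fˣ} (h : ¬ Relevant π t) :
    ∃ x ∈ unip F n, (mono π t)⁻¹ * x * mono π t ∈ unip F n ∧
      psi ((mono π t)⁻¹ * x * mono π t) ≠ psi x := by
  classical
  simp only [Relevant, not_forall] at h
  obtain ⟨i, j, hij, hp, hbad⟩ := h
  obtain ⟨a, ha⟩ : ∃ a : F, a = if (π j).val = (π i).val + 1 then 1 else 0 := ⟨_, rfl⟩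
  obtain ⟨b, hb⟩ : ∃ b : F, b = if j.val = i.val + 1 then ((t i)⁻¹ : Fˣ) * (t j : F) else 0 := ⟨_, rfl⟩
  have hab : a ≠ b := by
    intro he
    apply hbad
    have hne : ((t i)⁻¹ : Fˣ) * (t j : F) ≠ 0 := by simp
    rw [ha, hb] at he
    split_ifs at he with u v v
    · refine ⟨iff_of_true u v, fun _ => ?_⟩
      rw [← Units.val_mul, eq_comm, Units.val_eq_one, inv_mul_eq_one] at he
      exact he
    · exact absurd he one_ne_zero
    · exact absurd he.symm hne
    · exact ⟨iff_of_false u v, fun hv => absurd hv v⟩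
  obtain ⟨c, hc⟩ := exists_eChar_ne hab
  have hpij : π i ≠ π j := ne_of_lt hp
  have hconj : (mono π t)⁻¹ * root (π i) (π j) hpij c * mono π t =
      root i j (ne_of_lt hij) (((t i)⁻¹ : Fˣ) * c * t j) := by
    refine Units.ext (Matrix.ext fun k l => ?_)
    rw [conj_mono_apply, root_apply, root_apply]
    simp only [Matrix.one_apply, π.injective.eq_iff]
    by_cases h1 : k = l
    · subst h1
      have : ¬ (i = k ∧ j = k) := fun hh => (ne_of_lt hij) (hh.1.trans hh.2.symm)
      simp [this]
    · by_cases h2 : i = k ∧ j = l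
      · obtain ⟨rfl, rfl⟩ := h2; simp [h1]
      · simp [h1, h2]
  refine ⟨root (π i) (π j) hpij c, root_mem_rad (f := id) hpij hp c, ?_, ?_⟩
  · rw [hconj]; exact root_mem_rad (f := id) (ne_of_lt hij) hij _
  · rw [hconj, psi, psi, superSum_root, superSum_root]
    convert hc.symm using 2
    · rw [hb]; split_ifs <;> ring
    · rw [ha]; split_ifs <;> ring

/-! ### Multiplicity one -/

variable {V : Type*} [AddCommGroup V] [Module ℂ V] [FiniteDimensional ℂ V]

noncomputable local instance fintypeUnip : Fintype (unip F n) := Fintype.ofFinite _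

/-- The projection on the generic vectors. -/
noncomputable def genOp (ρ : Representation ℂ (GL (Fin n) F) V) : Module.End ℂ V :=
  avgOp ρ (unip F n) fun u => conj (psi u)

/-- The element `e g e`. -/
noncomputable def heckeOp (ρ : Representation ℂ (GL (Fin n) F) V) (g : GL (Fin n) F) : Module.End ℂ V :=
  genOp ρ * ρ g * genOp ρ

theorem psi_mul_conj (u : GL (Fin n) F) : psi u * conj (psi u) = 1 := by
  rw [psi, conj_eChar, ← AddChar.map_add_eq_mul, add_neg_cancel, AddChar.map_zero_eq_one]

theorem conj_psi_mul {a b : GL (Fin n) F} (ha : a ∈ unip F n) (hb : b ∈ unip F n) :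
    conj (psi (a * b)) = conj (psi a) * conj (psi b) := by
  rw [psi_mul ha hb, map_mul]

theorem mul_genOp (ρ : Representation ℂ (GL (Fin n) F) V) {u : GL (Fin n) F} (hu : u ∈ unip F n) :
    ρ u * genOp ρ = psi u • genOp ρ := by
  exact mul_avgOp ρ _ (lam := fun u => conj (psi u)) (fun _ ha _ hb => conj_psi_mul ha hb) hu (psi_mul_conj u)

theorem genOp_mul (ρ : Representation ℂ (GL (Fin n) F) V) {u : GL (Fin n) F} (hu : u ∈ unip F n) :
    genOp ρ * ρ u = psi u • genOp ρ := by
  exact avgOp_mul ρ _ (lam := fun u => conj (psi u)) (fun _ ha _ hb => conj_psi_mul ha hb) hu (psi_mul_conj u)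

theorem genOp_idem (ρ : Representation ℂ (GL (Fin n) F) V) : IsIdempotentElem (genOp ρ) := by
  exact avgOp_idem ρ _ (lam := fun u => conj (psi u)) (fun _ ha _ hb => conj_psi_mul ha hb) fun a _ =>
    right_ne_zero_of_mul_eq_one (psi_mul_conj a)

theorem heckeOp_mul_mul (ρ : Representation ℂ (GL (Fin n) F) V) {u v : GL (Fin n) F}
    (hu : u ∈ unip F n) (hv : v ∈ unip F n) (g : GL (Fin n) F) :
    heckeOp ρ (u * g * v) = (psi u * psi v) • heckeOp ρ g := by
  calc heckeOp ρ (u * g * v) = (genOp ρ * ρ u) * ρ g * (ρ v * genOp ρ) := by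
        simp only [heckeOp, map_mul, mul_assoc]
    _ = (psi u * psi v) • heckeOp ρ g := by
        rw [genOp_mul ρ hu, mul_genOp ρ hv, smul_mul_assoc, smul_mul_assoc, mul_smul_comm, smul_smul]
        rfl

theorem heckeOp_eq_zero (ρ : Representation ℂ (GL (Fin n) F) V) {g x y : GL (Fin n) F}
    (hx : x ∈ unip F n) (hy : y ∈ unip F n) (h : x * g = g * y) (hne : psi x ≠ psi y) :
    heckeOp ρ g = 0 := by
  have h1 : heckeOp ρ (x * g * 1) = heckeOp ρ (1 * g * y) := by rw [mul_one, one_mul, h]
  rw [heckeOp_mul_mul ρ hx (one_mem _), heckeOp_mul_mul ρ (one_mem _) hy, psi_one, mul_one, one_mul,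
    ← sub_eq_zero, ← sub_smul] at h1
  exact (smul_eq_zero.1 h1).resolve_left (sub_ne_zero.2 hne)

theorem heckeOp_flip (ρ : Representation ℂ (GL (Fin n) F) V) (g : GL (Fin n) F) :
    heckeOp ρ (flipGL g) = heckeOp ρ g := by
  obtain ⟨u, hu, v, hv, π, t, rfl⟩ := exists_unip_mono g
  rw [flipGL_mul, flipGL_mul, ← mul_assoc, heckeOp_mul_mul ρ (flipGL_mem_unip hv) (flipGL_mem_unip hu),
    heckeOp_mul_mul ρ hu hv, psi_flipGL, psi_flipGL, mul_comm (psi v)]
  by_cases h : Relevant π t
  · rw [h.flip_mono]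
  · obtain ⟨x, hx, hy, hne⟩ := exists_witness h
    obtain ⟨y, hy'⟩ : ∃ y, y = (mono π t)⁻¹ * x * mono π t := ⟨_, rfl⟩
    rw [← hy'] at hy hne
    have hxy : x * mono π t = mono π t * y := by rw [hy']; group
    rw [heckeOp_eq_zero ρ hx hy hxy hne.symm]
    rw [heckeOp_eq_zero ρ (flipGL_mem_unip hy) (flipGL_mem_unip hx)
      (by rw [← flipGL_mul, ← flipGL_mul, hxy]) (by rw [psi_flipGL, psi_flipGL]; exact hne)]

theorem heckeOp_comm (ρ : Representation ℂ (GL (Fin n) F) V) (g h : GL (Fin n) F) :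
    heckeOp ρ g * heckeOp ρ h = heckeOp ρ h * heckeOp ρ g := by
  have key : ∀ g h, heckeOp ρ g * heckeOp ρ h =
      (Nat.card (unip F n) : ℂ)⁻¹ • ∑ u : unip F n, conj (psi (u : GL (Fin n) F)) •
        heckeOp ρ (g * u * h) := by
    intro g h
    have e : heckeOp ρ g * heckeOp ρ h = genOp ρ * ρ g * genOp ρ * (ρ h * genOp ρ) := by
      calc heckeOp ρ g * heckeOp ρ h = genOp ρ * ρ g * (genOp ρ * genOp ρ) * (ρ h * genOp ρ) := by
            simp only [heckeOp, mul_assoc]
        _ = _ := by rw [(genOp_idem ρ).eq]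
    rw [e]
    conv_lhs => arg 1; arg 2; rw [genOp, avgOp]
    rw [mul_smul_comm, smul_mul_assoc, Finset.mul_sum, Finset.sum_mul]
    congr 1
    refine Finset.sum_congr rfl fun u _ => ?_
    rw [mul_smul_comm, smul_mul_assoc]
    congr 1
    simp only [heckeOp, map_mul, mul_assoc]
  conv_rhs => rw [← heckeOp_flip ρ g, ← heckeOp_flip ρ h, key]
  rw [key g h]
  congr 1
  refine Fintype.sum_bijective (fun u : unip F n =>
    (⟨flipGL u, flipGL_mem_unip u.2⟩ : unip F n)) ?_ _ _ fun u => ?_
  · exact Function.Involutive.bijective fun u => Subtype.ext (flipGL_flipGL _)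
  · simp only [psi_flipGL]
    rw [← heckeOp_flip ρ (g * (u : GL (Fin n) F) * h), flipGL_mul, flipGL_mul, ← mul_assoc]

/-- The generic character occurs at most once in an irreducible representation. -/
theorem finrank_genOp_le_one (ρ : Representation ℂ (GL (Fin n) F) V) [ρ.IsIrreducible] :
    finrank ℂ (LinearMap.range (genOp ρ)) ≤ 1 := by
  by_cases hE : genOp ρ = 0
  · rw [hE, LinearMap.range_zero, finrank_bot]; exact Nat.zero_le _
  obtain ⟨E, hE'⟩ : ∃ E, E = genOp ρ := ⟨_, rfl⟩
  have hEE : E * E = E := hE' ▸ (genOp_idem ρ).eq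
  have htr : LinearMap.trace ℂ V E ≠ 0 := by
    rw [hE', trace_idem' (genOp_idem ρ), Nat.cast_ne_zero]
    intro h0
    rw [Submodule.finrank_eq_zero, LinearMap.range_eq_bot] at h0
    exact hE h0
  have hd : (finrank ℂ V : ℂ) ≠ 0 := by
    exact_mod_cast (CfsgLib.Char.finrank_pos_of_isIrreducible ρ).ne'
  have havg : ∀ A : Module.End ℂ V, ∑ y, ρ y⁻¹ * A * ρ y =
      ((Fintype.card (GL (Fin n) F) : ℂ) * LinearMap.trace ℂ V A / (finrank ℂ V : ℂ)) •
        (1 : Module.End ℂ V) := by
    intro A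
    rw [CfsgLib.Char.eq_smul_one_of_commute ρ (∑ y, ρ y⁻¹ * A * ρ y) fun x => ?_]
    · congr 2
      rw [map_sum, Finset.sum_congr rfl fun y _ => ?_, Finset.sum_const, Finset.card_univ, nsmul_eq_mul]
      rw [LinearMap.trace_mul_comm, ← mul_assoc, ← map_mul, mul_inv_cancel, map_one, one_mul]
    · rw [Finset.mul_sum, Finset.sum_mul]
      refine Fintype.sum_equiv (Equiv.mulRight x⁻¹) _ _ fun y => ?_
      rw [Equiv.coe_mulRight, ← mul_assoc, ← mul_assoc, ← map_mul, _root_.mul_inv_rev, inv_inv]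
      simp only [mul_assoc, ← map_mul, inv_mul_cancel, mul_one]
  have hscal : ∀ x, LinearMap.trace ℂ V E • heckeOp ρ x = LinearMap.trace ℂ V (heckeOp ρ x) • E := by
    intro x
    obtain ⟨A, hA⟩ : ∃ A, A = heckeOp ρ x := ⟨_, rfl⟩
    have hA1 : A * E = A := by
      rw [hA, heckeOp, ← hE']; simp only [mul_assoc, hEE]
    have hA2 : E * A = A := by
      rw [hA, heckeOp, ← hE']; simp only [← mul_assoc, hEE]
    have hcomm : ∀ y, A * ρ y * E = E * ρ y * A := fun y => by
      have := heckeOp_comm ρ x y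
      rw [← hA, heckeOp, ← hE'] at this
      simpa only [← mul_assoc, hA1, mul_assoc _ E A, hA2] using this
    have h1 : (∑ y, ρ y⁻¹ * A * ρ y) * E = (∑ y, ρ y⁻¹ * E * ρ y) * A := by
      rw [Finset.sum_mul, Finset.sum_mul]
      refine Finset.sum_congr rfl fun y _ => ?_
      simp only [mul_assoc] at hcomm ⊢
      rw [hcomm]
    rw [havg, havg, smul_mul_assoc, smul_mul_assoc, one_mul, one_mul, mul_div_assoc, mul_div_assoc,
      ← smul_smul, ← smul_smul] at h1
    have hc : (Fintype.card (GL (Fin n) F) : ℂ) ≠ 0 := by exact_mod_cast Fintype.card_ne_zero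
    have h2 := congrArg (fun T => (finrank ℂ V : ℂ) • T) (smul_right_injective _ hc h1)
    simp only [smul_smul, mul_div_cancel₀ _ hd] at h2
    rw [← hA]
    exact h2.symm
  obtain ⟨v, hv, hv0⟩ := Submodule.exists_mem_ne_zero_of_ne_bot
    (fun h0 => hE (LinearMap.range_eq_bot.1 h0) : LinearMap.range (genOp ρ) ≠ ⊥)
  have hEv : E v = v := by
    obtain ⟨w, rfl⟩ := LinearMap.mem_range.1 hv
    rw [← hE', ← Module.End.mul_apply, hEE]
  let W : Submodule ℂ V := ⨅ y : GL (Fin n) F, Submodule.comap (E * ρ y) (ℂ ∙ v)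
  have hWv : v ∈ W := by
    rw [Submodule.mem_iInf]
    intro y
    rw [Submodule.mem_comap, Module.End.mul_apply, Submodule.mem_span_singleton]
    refine ⟨(LinearMap.trace ℂ V E)⁻¹ * LinearMap.trace ℂ V (heckeOp ρ y), ?_⟩
    have h3 := congrArg (fun T : Module.End ℂ V => T v) (hscal y)
    simp only [LinearMap.smul_apply, heckeOp, ← hE', Module.End.mul_apply, hEv] at h3
    rw [mul_smul]
    simp only [heckeOp, ← hE']
    rw [← h3, smul_smul, inv_mul_cancel₀ htr, one_smul]
  let S : Subrepresentation ρ :=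
    { toSubmodule := W
      apply_mem_toSubmodule := fun g w hw => by
        rw [Submodule.mem_iInf] at hw ⊢
        intro y
        have := hw (y * g)
        rw [Submodule.mem_comap, map_mul, ← mul_assoc, Module.End.mul_apply] at this
        rwa [Submodule.mem_comap] }
  have htop : W = ⊤ := by
    rcases IsSimpleOrder.eq_bot_or_eq_top S with h | h
    · exfalso
      have hb : W = ⊥ := congrArg Subrepresentation.toSubmodule h
      rw [hb, Submodule.mem_bot] at hWv
      exact hv0 hWv
    · exact congrArg Subrepresentation.toSubmodule h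
  have hle : LinearMap.range (genOp ρ) ≤ ℂ ∙ v := by
    rintro _ ⟨w, rfl⟩
    have hw : w ∈ W := htop ▸ Submodule.mem_top
    rw [Submodule.mem_iInf] at hw
    have := hw 1
    rwa [Submodule.mem_comap, map_one, mul_one, hE'] at this
  calc finrank ℂ (LinearMap.range (genOp ρ)) ≤ finrank ℂ (ℂ ∙ v) := Submodule.finrank_mono hle
    _ = 1 := finrank_span_singleton hv0

/-- The multiplicity of the generic character in a class function. -/
noncomputable def genMult (χ : GL (Fin n) F → ℂ) : ℂ :=
  (Nat.card (unip F n) : ℂ)⁻¹ * sumOn (unip F n) fun g => χ g * conj (psi g)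

theorem genMult_eq_finrank (ρ : Representation ℂ (GL (Fin n) F) V) :
    genMult ρ.character = (finrank ℂ (LinearMap.range (genOp ρ)) : ℂ) := by
  rw [← trace_idem' (genOp_idem ρ), genOp, trace_avgOp, genMult]
  congr 1
  exact sumOn_congr fun g _ => mul_comm _ _

/-- Multiplicity one. -/
theorem genMult_eq_zero_or_one {χ : GL (Fin n) F → ℂ} (hχ : Cfsg.IsIrrCharacter (GL (Fin n) F) χ) :
    genMult χ = 0 ∨ genMult χ = 1 := by
  obtain ⟨m, ρ, hρ, rfl⟩ := hχ
  rw [genMult_eq_finrank]
  rcases Nat.le_one_iff_eq_zero_or_eq_one.1 (finrank_genOp_le_one ρ) with h | h <;> simp [h]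

end CfsgLib.GLCusp
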