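import Cfsg.Agent.GLCusp.LeviPair
import Cfsg.Agent.GLCusp.Generic

/-!
# Parabolically induced cuspidal data contain exactly one generic constituent
-/

set_option autoImplicit false
set_option linter.unusedSectionVars false

namespace CfsgLib.GLCusp

open Matrix
open scoped MatrixGroups ComplexConjugate

universe u

variable {F : Type u} [Field F] [Fintype F] [DecidableEq F] {n : ℕ}

theorem eChar_sum {ι : Type*} (s : Finset ι) (f : ι → F) :
    eChar F (∑ i ∈ s, f i) = ∏ i ∈ s, eChar F (f i) := by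
  classical
  induction s using Finset.induction with
  | empty => simp [AddChar.map_zero_eq_one]
  | insert a s ha ih => rw [Finset.sum_insert ha, Finset.prod_insert ha, AddChar.map_add_eq_mul, ih]

theorem mono_one_eq_perm (π : Equiv.Perm (Fin n)) :
    mono π (fun _ => (1 : Fˣ)) = CfsgLib.GLn.permGL F π := by
  refine Units.ext (Matrix.ext fun a b => ?_)
  rw [mono_apply, CfsgLib.GLn.permGL_apply, Units.val_one]

namespace Blocks

variable (B : Blocks n)

/-- The ranking that reads the blocks from the last to the first. -/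
noncomputable def rho : Equiv.Perm (Fin n) := rankPerm fun i => (B.lab i).val

theorem rho_lt_of_lab_lt {i j : Fin n} (h : B.lab i < B.lab j) : B.rho j < B.rho i := by
  rw [Fin.lt_def, rho, rankPerm_val, rankPerm_val]
  exact rankNat_lt_of (Or.inl h)

theorem rho_lt_iff (a : Fin B.k) (x y : Fin (B.m a)) :
    B.rho (B.E ⟨a, x⟩) < B.rho (B.E ⟨a, y⟩) ↔ x < y := by
  have hm : Monotone fun i => (B.lab i).val := fun i j h => B.lab_mono h
  have he : (B.lab (B.E ⟨a, x⟩)).val = (B.lab (B.E ⟨a, y⟩)).val := by rw [B.lab_E, B.lab_E]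
  rcases lt_trichotomy x y with h | h | h
  · exact iff_of_true ((rankPerm_lt_iff hm (B.inn a x y h)).2 he) h
  · subst h; exact iff_of_false (lt_irrefl _) (lt_irrefl _)
  · exact iff_of_false (lt_asymm ((rankPerm_lt_iff hm (B.inn a y x h)).2 he.symm)) (lt_asymm h)

theorem antitone_rho : Antitone fun i => B.lab (B.rho.symm i) := by
  intro i j hij
  by_contra h
  have := B.rho_lt_of_lab_lt (not_le.1 h)
  rw [Equiv.apply_symm_apply, Equiv.apply_symm_apply] at this
  exact not_lt.2 hij this

theorem superSum_sec (l : B.Levi F) :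
    superSum ((B.sec l : GL (Fin n) F) : Matrix (Fin n) (Fin n) F) =
      ∑ a, superSum (l a : Matrix (Fin (B.m a)) (Fin (B.m a)) F) := by
  simp only [superSum]
  rw [← B.E.sum_comp, Fintype.sum_sigma]
  refine Finset.sum_congr rfl fun a _ => Finset.sum_congr rfl fun x _ => ?_
  rw [← B.E.sum_comp, Fintype.sum_sigma, Finset.sum_eq_single a]
  · refine Finset.sum_congr rfl fun y _ => ?_
    rw [B.sec_apply_same]
    simp only [B.succ_iff]
  · intro b _ hb
    refine Finset.sum_eq_zero fun y _ => ?_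
    rw [B.sec_apply_ne l (by rw [B.lab_E, B.lab_E]; exact Ne.symm hb), ite_self]
  · simp

theorem psi_sec (l : B.Levi F) : psi (B.sec l) = ∏ a, psi (l a) := by
  rw [psi, B.superSum_sec, eChar_sum]
  rfl

variable {B}

theorem mem_meet_unip {g : GL (Fin n) F} :
    g ∈ meet (B.P F) (unip F n) (CfsgLib.GLn.permGL F B.rho.symm) ↔
      ∃ l : B.Levi F, (∀ a, l a ∈ unip F (B.m a)) ∧ B.sec l = g := by
  have hδ : ∀ p q : Fin n, (1 : Matrix (Fin n) (Fin n) F) (B.rho.symm p) (B.rho.symm q) =
      (1 : Matrix (Fin n) (Fin n) F) p q := fun p q => by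
    simp [Matrix.one_apply, B.rho.symm.injective.eq_iff]
  constructor
  · intro hg
    obtain ⟨hP, hU⟩ := mem_meet.1 hg
    have hrel : ∀ i j, B.rho j ≤ B.rho i → g i j = (1 : Matrix (Fin n) (Fin n) F) i j := by
      intro i j hij
      have := mem_unip.1 hU _ _ hij
      rw [conj_perm_apply, ← hδ, Equiv.symm_apply_apply, Equiv.symm_apply_apply] at this
      exact this
    refine ⟨B.proj ⟨g, hP⟩, fun a => mem_unip.2 fun x y hyx => ?_, ?_⟩
    · rw [proj_apply, B.blk_apply, hrel]
      · simp [Matrix.one_apply]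
      · exact not_lt.1 fun h => not_lt.2 hyx ((B.rho_lt_iff a x y).1 h)
    · refine Units.ext (Matrix.ext fun i j => ?_)
      rcases lt_trichotomy (B.lab i) (B.lab j) with h | h | h
      · rw [B.sec_apply_ne _ h.ne, hrel i j (B.rho_lt_of_lab_lt h).le, Matrix.one_apply_ne]
        intro e; rw [e] at h; exact lt_irrefl _ h
      · obtain ⟨a, x, rfl⟩ := B.exists_E i
        rw [B.lab_E] at h
        obtain ⟨y, rfl⟩ := B.exists_E_of_lab h.symm
        rw [B.sec_apply_same]
        rfl
      · rw [B.sec_apply_ne _ h.ne', mem_parab.1 hP i j h]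
  · rintro ⟨l, hl, rfl⟩
    refine mem_meet.2 ⟨B.sec_mem l, mem_unip.2 fun p q hqp => ?_⟩
    rw [conj_perm_apply, ← hδ]
    obtain ⟨a, x, hx⟩ := B.exists_E (B.rho.symm p)
    rw [← hx]
    by_cases h : B.lab (B.rho.symm q) = a
    · obtain ⟨y, hy⟩ := B.exists_E_of_lab h
      rw [← hy, B.sec_apply_same, mem_unip.1 (hl a) x y]
      · simp [Matrix.one_apply]
      · refine not_lt.1 fun hlt => not_lt.2 hqp ?_
        have := (B.rho_lt_iff a x y).2 hlt
        rwa [hx, hy, Equiv.apply_symm_apply, Equiv.apply_symm_apply] at this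
    · rw [B.sec_apply_ne _ (by rw [B.lab_E]; exact Ne.symm h), Matrix.one_apply_ne]
      intro e
      rw [← e, B.lab_E] at h
      exact h rfl

/-- The value of the twisted sum against the generic character. -/
theorem twistSum_rho {σ : B.Data F} (hσ : Good σ) :
    twistSum (B.P F) (unip F n) (theta σ) (psiU F n) (CfsgLib.GLn.permGL F B.rho.symm) =
      (Nat.card (meet (B.P F) (unip F n) (CfsgLib.GLn.permGL F B.rho.symm)) : ℂ) := by
  classical
  obtain ⟨T, hT⟩ : ∃ T : (a : Fin B.k) → Finset (GL (Fin (B.m a)) F),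
      T = fun a => Finset.univ.filter fun g => g ∈ unip F (B.m a) := ⟨_, rfl⟩
  have hset : (Finset.univ.filter fun g => g ∈ meet (B.P F) (unip F n) (CfsgLib.GLn.permGL F B.rho.symm)) =
      (Fintype.piFinset T).image B.sec := by
    ext g
    simp only [Finset.mem_filter, Finset.mem_univ, true_and, Finset.mem_image, Fintype.mem_piFinset, hT]
    exact mem_meet_unip
  have hinj : Function.Injective (B.sec : B.Levi F → GL (Fin n) F) := fun l l' h => by
    rw [← B.proj_sec l, ← B.proj_sec l']
    congr 1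
    exact Subtype.ext h
  have hsum : ∀ f : GL (Fin n) F → ℂ,
      sumOn (meet (B.P F) (unip F n) (CfsgLib.GLn.permGL F B.rho.symm)) f =
        ∑ l ∈ Fintype.piFinset T, f (B.sec l) := fun f => by
    rw [sumOn, hset, Finset.sum_image fun a _ b _ h => hinj h]
  rw [twistSum_eq_meet, ← mul_one (Nat.card (meet _ _ _) : ℂ), ← sumOn_const, hsum, hsum]
  calc ∑ l ∈ Fintype.piFinset T, Cfsg.extendByZero (B.P F) (theta σ) (B.sec l) *
        conj (Cfsg.extendByZero (unip F n) (psiU F n)
          ((CfsgLib.GLn.permGL F B.rho.symm)⁻¹ * B.sec l * CfsgLib.GLn.permGL F B.rho.symm))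
      = ∑ l ∈ Fintype.piFinset T, ∏ a, σ a (l a) * conj (psi (l a)) := by
        refine Finset.sum_congr rfl fun l hl => ?_
        have hl' : ∀ a, l a ∈ unip F (B.m a) := fun a => by
          simpa [hT] using Fintype.mem_piFinset.1 hl a
        obtain ⟨h1, h2⟩ := mem_meet.1 (mem_meet_unip.2 ⟨l, hl', rfl⟩)
        rw [extendByZero_theta σ h1, B.proj_sec, extendByZero_psiU h2, Finset.prod_mul_distrib, ← map_prod,
          ← B.psi_sec]
        congr 2
        obtain ⟨x, hx⟩ : ∃ x, x = (CfsgLib.GLn.permGL F B.rho.symm)⁻¹ * B.sec l *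
            CfsgLib.GLn.permGL F B.rho.symm := ⟨_, rfl⟩
        rw [← hx] at h2 ⊢
        have hrel : Relevant B.rho (fun _ => (1 : Fˣ)) :=
          relevant_rankPerm (fun i j h => B.lab_mono h) fun _ _ _ _ => rfl
        have e : (mono B.rho fun _ => (1 : Fˣ))⁻¹ * x * mono B.rho (fun _ => (1 : Fˣ)) = B.sec l := by
          rw [mono_one_eq_perm, hx, show B.rho.symm = B.rho⁻¹ from rfl, map_inv]
          group
        have hU : B.sec l ∈ unip F n := by
          refine mem_unip.2 fun i j hji => ?_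
          obtain ⟨a, p, rfl⟩ := B.exists_E i
          obtain ⟨b, q, rfl⟩ := B.exists_E j
          rcases eq_or_ne a b with rfl | hab
          · rw [B.sec_apply_same, mem_unip.1 (hl' a) p q]
            · simp [Matrix.one_apply]
            · exact not_lt.1 fun h => not_lt.2 hji ((B.E_lt_iff a p q).2 h)
          · rw [B.sec_apply_ne _ (by rw [B.lab_E, B.lab_E]; exact hab), Matrix.one_apply_ne]
            intro he
            exact hab (congrArg Sigma.fst (B.E.injective he))
        rw [← hrel.psi_conj h2 (e ▸ hU), e]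
    _ = ∏ a, ∑ x ∈ T a, σ a x * conj (psi x) := (Finset.prod_univ_sum T fun a x => σ a x * conj (psi x)).symm
    _ = ∏ a, ∑ x ∈ T a, (1 : ℂ) := by
        refine Finset.prod_congr rfl fun a _ => ?_
        have h := genMult_of_cuspidal (hσ a).1 (hσ a).2 (B.pos a)
        rw [genMult] at h
        have h' : sumOn (unip F (B.m a)) (fun g => σ a g * conj (psi g)) =
            sumOn (unip F (B.m a)) fun _ => 1 := by
          rw [sumOn_const, mul_one]
          exact ((inv_mul_eq_one₀ (card_ne_zero _)).1 h).symm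
        simpa [sumOn, hT] using h'
    _ = ∑ l ∈ Fintype.piFinset T, (1 : ℂ) := by
        rw [Finset.prod_univ_sum]
        simp

/-- Only the block-reversing permutations see the generic character. -/
theorem antitone_of_ne_zero {σ : B.Data F} {π : Equiv.Perm (Fin n)}
    (hne : twistSum (B.P F) (unip F n) (theta σ) (psiU F n) (CfsgLib.GLn.permGL F π) ≠ 0) :
    Antitone fun i => B.lab (π i) := by
  suffices h : ∀ i j : Fin n, j.val = i.val + 1 → B.lab (π j) ≤ B.lab (π i) by
    suffices H : ∀ (d : ℕ) (i j : Fin n), j.val = i.val + d → B.lab (π j) ≤ B.lab (π i) from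
      fun i j hij => H (j.val - i.val) i j (by rw [Fin.le_def] at hij; omega)
    intro d
    induction d with
    | zero => intro i j hj; rw [Fin.ext (a := j) (b := i) (by omega)]
    | succ d ih =>
      intro i j hj
      obtain ⟨p, hp⟩ : ∃ p : Fin n, p.val = i.val + d := ⟨⟨i.val + d, by have := j.isLt; omega⟩, rfl⟩
      exact (h p j (by omega)).trans (ih i p hp)
  intro i j hij
  by_contra hlt
  push Not at hlt
  refine hne ?_
  have hne' : i ≠ j := fun e => by rw [e] at hij; omega
  have hπne : π i ≠ π j := π.injective.ne hne'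
  obtain ⟨c, hc⟩ := eChar_ne_one (one_ne_zero : (1 : F) ≠ 0)
  rw [one_mul] at hc
  have hconj : (CfsgLib.GLn.permGL F π)⁻¹ * root (π i) (π j) hπne c * CfsgLib.GLn.permGL F π =
      root i j hne' c := Units.ext (Matrix.ext fun p q => by
    rw [conj_perm_apply, root_apply, root_apply]
    simp [Matrix.one_apply, π.injective.eq_iff])
  have hxU : root (π i) (π j) hπne c ∈ B.U F := root_mem_rad hπne hlt c
  have hyU : root i j hne' c ∈ unip F n := root_mem_rad (f := id) hne' (by
    rw [id, id, Fin.lt_def]; omega) c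
  have hxm : root (π i) (π j) hπne c ∈ meet (B.P F) (unip F n) (CfsgLib.GLn.permGL F π) :=
    mem_meet.2 ⟨rad_le_parab _ hxU, hconj ▸ hyU⟩
  rw [twistSum_eq_meet]
  refine sumOn_eq_zero_of_translate hxm (c := conj (eChar F c))
    (fun h1 => hc ((RingEquiv.map_eq_one_iff (starRingAut : RingAut ℂ)).1 h1)) fun g hg => ?_
  obtain ⟨h1, h2⟩ := mem_meet.1 hg
  obtain ⟨hP, hproj⟩ := B.mem_U_iff.1 hxU
  have e : (CfsgLib.GLn.permGL F π)⁻¹ * (root (π i) (π j) hπne c * g) * CfsgLib.GLn.permGL F π =
      root i j hne' c * ((CfsgLib.GLn.permGL F π)⁻¹ * g * CfsgLib.GLn.permGL F π) := by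
    rw [← hconj]; group
  have e' : B.proj ⟨root (π i) (π j) hπne c * g, mul_mem hP h1⟩ = B.proj ⟨g, h1⟩ := by
    have : (⟨root (π i) (π j) hπne c * g, mul_mem hP h1⟩ : B.P F) = ⟨_, hP⟩ * ⟨g, h1⟩ := rfl
    rw [this, map_mul, hproj, one_mul]
  rw [e, extendByZero_theta σ (mul_mem hP h1), e', extendByZero_theta σ h1,
    extendByZero_psiU (mul_mem hyU h2), extendByZero_psiU h2, psi_mul hyU h2, map_mul,
    show psi (root i j hne' c) = eChar F c by rw [psi, superSum_root, if_pos hij]]
  ring

theorem classInner_ind_gelfandGraev {σ : B.Data F} (hσ : Good σ) :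
    Cfsg.classInner (ind σ) (gelfandGraev F n) = 1 := by
  classical
  have hb : Cfsg.IsClassFunction (unip F n) (psiU F n) :=
    CfsgLib.Char.IsCharacter.isClassFunction isCharacter_psiU
  rw [ind, gelfandGraev, classInner_ind_ind hσ.isClassFunction hb {CfsgLib.GLn.permGL F B.rho.symm}]
  · rw [Finset.sum_singleton, ← twistSum_eq_meet, twistSum_rho hσ, inv_mul_cancel₀ (card_ne_zero _)]
  · intro y hy
    refine ⟨_, Finset.mem_singleton_self _, ?_⟩
    obtain ⟨u, hu, v, hv, π, t, rfl⟩ := exists_unip_mono y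
    have hmono : mono π t = diagGL (fun i => t (π.symm i)) * CfsgLib.GLn.permGL F π := by
      rw [diag_mul_perm]
      congr 1
      funext i
      rw [Equiv.symm_apply_apply]
    have hd : diagGL (fun i => t (π.symm i)) ∈ B.P F := B.upperTriangular_le (fun i j h => by
      rw [diagGL_apply, if_neg (fun e : i = j => lt_irrefl _ (e ▸ h : id j < id j))])
    have hy' : twistSum (B.P F) (unip F n) (theta σ) (psiU F n) (CfsgLib.GLn.permGL F π) ≠ 0 := by
      rwa [hmono, ← mul_assoc, twistSum_mul hσ.isClassFunction hb (mul_mem (B.unip_le hu) hd) hv] at hy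
    have hlab : B.lab ∘ π = B.lab ∘ B.rho.symm :=
      Tuple.unique_antitone (antitone_of_ne_zero hy') B.antitone_rho
    refine ⟨u * diagGL (fun i => t (π.symm i)) * CfsgLib.GLn.permGL F (π * (B.rho.symm)⁻¹),
      mul_mem (mul_mem (B.unip_le hu) hd) (B.perm_mem fun i => ?_), v, hv, ?_⟩
    · rw [Equiv.Perm.mul_apply, show B.lab (π ((B.rho.symm)⁻¹ i)) = _ from congrFun hlab _,
        Function.comp_apply, Equiv.Perm.coe_inv, Equiv.apply_symm_apply]
    · rw [hmono, map_mul, map_inv]
      group
  · intro r hr r' hr' h hh k hk he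
    rw [Finset.mem_singleton.1 hr, Finset.mem_singleton.1 hr']

/-- There is exactly one generic constituent. -/
theorem existsUnique_generic {σ : B.Data F} (hσ : Good σ) :
    ∃! χ : GenIrr F n, Cfsg.classInner (ind σ) (χ.1 : GL (Fin n) F → ℂ) ≠ 0 := by
  classical
  haveI : Finite (Cfsg.IrrCharacter (GL (Fin n) F)) := CfsgLib.Char.finite_irrCharacter _
  haveI : Fintype (GenIrr F n) := Fintype.ofFinite _
  have hnat : ∀ χ : GenIrr F n, ∃ N : ℕ, Cfsg.classInner (ind σ) (χ.1 : GL (Fin n) F → ℂ) = N :=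
    fun χ => CfsgLib.Char.IsCharacter.exists_classInner_eq_natCast hσ.isCharacter_ind χ.1.2
  choose N hN using hnat
  have hsum : ∑ χ, N χ = 1 := by
    have h := classInner_ind_gelfandGraev hσ
    rw [CfsgLib.Char.classInner_eq_sum_irr
      (CfsgLib.Char.IsCharacter.isClassFunction hσ.isCharacter_ind)] at h
    rw [Finset.sum_congr rfl (g := fun χ => if genMult χ = 1 then Cfsg.classInner (ind σ) χ else 0)
      (fun χ hχ => ?_), ← Finset.sum_filter] at h
    · have : (∑ χ : GenIrr F n, (N χ : ℂ)) = 1 := by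
        rw [← h]
        refine Finset.sum_bij (fun χ _ => (χ.1 : GL (Fin n) F → ℂ))
          (fun χ _ => Finset.mem_filter.2 ⟨CfsgLib.Char.mem_irrFinset.2 χ.1.2, χ.2⟩)
          (fun χ _ χ' _ he => Subtype.ext (Subtype.ext he))
          (fun χ hχ => ⟨⟨⟨χ, CfsgLib.Char.mem_irrFinset.1 (Finset.mem_filter.1 hχ).1⟩,
            (Finset.mem_filter.1 hχ).2⟩, Finset.mem_univ _, rfl⟩) fun χ _ => (hN χ).symm
      exact_mod_cast this
    · have hχ' := CfsgLib.Char.mem_irrFinset.1 hχ
      rw [CfsgLib.Char.classInner_conj,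
        classInner_gelfandGraev (CfsgLib.Char.IsIrrCharacter.isClassFunction hχ')]
      rcases genMult_eq_zero_or_one hχ' with h' | h' <;> simp [h']
  obtain ⟨χ, hχ⟩ : ∃ χ, N χ ≠ 0 := by
    by_contra! h0
    rw [Finset.sum_eq_zero fun χ _ => h0 χ] at hsum
    exact zero_ne_one hsum
  refine ⟨χ, by simp only [hN]; exact_mod_cast hχ, fun χ' hχ' => ?_⟩
  simp only [hN, ne_eq, Nat.cast_eq_zero] at hχ'
  by_contra hne
  have h1 := Finset.sum_le_sum_of_subset (f := N) (Finset.subset_univ ({χ', χ} : Finset (GenIrr F n)))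
  rw [Finset.sum_pair hne, hsum] at h1
  omega

end Blocks

end CfsgLib.GLCusp
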