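import Cfsg.Agent.GLCusp.Pieces
import Cfsg.Agent.GLCusp.Pair
import Cfsg.Agent.GLCusp.Hecke

/-!
# Inner products of parabolically induced cuspidal characters
-/

set_option autoImplicit false
set_option linter.unusedSectionVars false

namespace CfsgLib.GLCusp

open Matrix
open scoped MatrixGroups ComplexConjugate

universe u

theorem twistSum_symm {G : Type u} [Group G] [Fintype G] (H K : Subgroup G) (a : H → ℂ) (b : K → ℂ)
    (y : G) : twistSum H K a b y = conj (twistSum K H b a y⁻¹) := by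
  classical
  have e : ∀ (H : Subgroup G) (a : H → ℂ) (f : G → ℂ),
      sumOn H (fun g => Cfsg.extendByZero H a g * f g) = ∑ g, Cfsg.extendByZero H a g * f g := by
    intro H a f
    rw [sumOn]
    refine Finset.sum_subset (Finset.subset_univ _) fun g _ hg => ?_
    rw [CfsgLib.Char.extendByZero_of_not_mem a (by simpa using hg), zero_mul]
  rw [twistSum, twistSum, e, e, map_sum]
  refine Fintype.sum_equiv (MulAut.conj y⁻¹).toEquiv _ _ fun g => ?_
  simp only [MulEquiv.toEquiv_eq_coe, EquivLike.coe_coe, MulAut.conj_apply, inv_inv, map_mul,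
    Complex.conj_conj]
  rw [mul_comm, show y * (y⁻¹ * g * y) * y⁻¹ = g by group]

variable {F : Type u} [Field F] [Fintype F] [DecidableEq F] {n : ℕ}

namespace Blocks

variable (B B' : Blocks n)

/-- The permutations matching the blocks of `B'` with those of `B` along `β`. -/
def Match (β : Fin B.k ≃ Fin B'.k) (π : Equiv.Perm (Fin n)) : Prop :=
  ∀ j, B'.lab j = β (B.lab (π j))

variable {B B'}

theorem Match.exists_tau {β : Fin B.k ≃ Fin B'.k} {π : Equiv.Perm (Fin n)} (h : B.Match B' β π)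
    (a : Fin B.k) :
    ∃ τ : Fin (B.m a) ≃ Fin (B'.m (β a)), ∀ x, π (B'.E ⟨β a, τ x⟩) = B.E ⟨a, x⟩ := by
  have h1 : ∀ x, ∃ y, B'.E ⟨β a, y⟩ = π.symm (B.E ⟨a, x⟩) := fun x => B'.exists_E_of_lab (by
    rw [h, Equiv.apply_symm_apply, B.lab_E])
  have h2 : ∀ y, ∃ x, B.E ⟨a, x⟩ = π (B'.E ⟨β a, y⟩) := fun y => B.exists_E_of_lab (β.injective (by
    rw [← h, B'.lab_E]))
  choose f hf using h1
  choose g hg using h2
  refine ⟨⟨f, g, fun x => B.E_injective a ?_, fun y => B'.E_injective (β a) ?_⟩, fun x => ?_⟩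
  · show B.E ⟨a, g (f x)⟩ = B.E ⟨a, x⟩
    rw [hg, hf, Equiv.apply_symm_apply]
  · show B'.E ⟨β a, f (g y)⟩ = B'.E ⟨β a, y⟩
    rw [hf, hg, Equiv.symm_apply_apply]
  · show π (B'.E ⟨β a, f x⟩) = _
    rw [hf, Equiv.apply_symm_apply]

theorem exists_match {β : Fin B.k ≃ Fin B'.k} (hβ : ∀ a, B'.m (β a) = B.m a) : ∃ π, B.Match B' β π := by
  obtain ⟨e, he⟩ : ∃ e : ((a : Fin B.k) × Fin (B.m a)) ≃ ((b : Fin B'.k) × Fin (B'.m b)),
      ∀ p, (e p).1 = β p.1 := ⟨Equiv.sigmaCongr β fun a => finCongr (hβ a).symm, fun _ => rfl⟩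
  refine ⟨B'.E.symm.trans (e.symm.trans B.E), fun j => ?_⟩
  simp only [Equiv.trans_apply, lab, Equiv.symm_apply_apply, ← he, Equiv.apply_symm_apply]

theorem Match.sec_mem_meet {β : Fin B.k ≃ Fin B'.k} {π : Equiv.Perm (Fin n)} (h : B.Match B' β π)
    (l : B.Levi F) : B.sec l ∈ meet (B.P F) (B'.P F) (CfsgLib.GLn.permGL F π) := by
  refine mem_meet.2 ⟨B.sec_mem l, mem_parab.2 fun i j hij => ?_⟩
  rw [conj_perm_apply]
  refine B.sec_apply_ne l fun he => (ne_of_lt hij) ?_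
  rw [h, h, he]

/-- The value of the twisted sum at a matching permutation. -/
theorem Match.twistSum_eq {β : Fin B.k ≃ Fin B'.k} {π : Equiv.Perm (Fin n)} (h : B.Match B' β π)
    {σ : B.Data F} (hσ : Good σ) {σ' : B'.Data F} (hσ' : Good σ') :
    twistSum (B.P F) (B'.P F) (theta σ) (theta σ') (CfsgLib.GLn.permGL F π) =
      if key σ' ∘ β = key σ then
        (Nat.card (meet (B.P F) (B'.P F) (CfsgLib.GLn.permGL F π)) : ℂ) else 0 := by
  classical
  choose τ hτ using h.exists_tau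
  have hblk : ∀ (g : GL (Fin n) F) (hg : g ∈ B.P F)
      (hg' : (CfsgLib.GLn.permGL F π)⁻¹ * g * CfsgLib.GLn.permGL F π ∈ B'.P F) (a : Fin B.k),
      B'.blk (β a) ⟨_, hg'⟩ = glReindex (τ a) (B.proj ⟨g, hg⟩ a) := by
    intro g hg hg' a
    refine Units.ext (Matrix.ext fun x y => ?_)
    rw [B'.blk_apply, glReindex_apply, proj_apply, B.blk_apply]
    simp only [conj_perm_apply]
    conv_lhs => rw [← (τ a).apply_symm_apply x, ← (τ a).apply_symm_apply y, hτ, hτ]
  obtain ⟨η, hη⟩ : ∃ η : B.Data F, η = fun a g => σ' (β a) (glReindex (τ a) g) := ⟨_, rfl⟩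
  have hηirr : ∀ a, Cfsg.IsIrrCharacter (GL (Fin (B.m a)) F) (η a) := fun a => by
    rw [hη]
    exact CfsgLib.Char.IsIrrCharacter.comp_surjective (hσ' (β a)).1 (glReindex (τ a)).toMonoidHom
      (glReindex (τ a)).surjective
  have hkey : key σ' ∘ β = key σ ↔ η = σ := by
    rw [funext_iff, funext_iff]
    refine forall_congr' fun a => ?_
    rw [Function.comp_apply, key, key,
      piece_eq_iff (τ a) (CfsgLib.Char.IsIrrCharacter.isClassFunction (hσ' (β a)).1), hη]
  have hS : meet (B.P F) (B'.P F) (CfsgLib.GLn.permGL F π) ≤ B.P F := inf_le_left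
  have h1 := sumOn_proj hS h.sec_mem_meet (fun l => ∏ a, σ a (l a) * conj (η a (l a)))
    (fun g => Cfsg.extendByZero (B.P F) (theta σ) g * conj (Cfsg.extendByZero (B'.P F) (theta σ')
      ((CfsgLib.GLn.permGL F π)⁻¹ * g * CfsgLib.GLn.permGL F π))) (fun g hg => by
        obtain ⟨hg1, hg2⟩ := mem_meet.1 hg
        rw [extendByZero_theta σ hg1, CfsgLib.Char.extendByZero_of_mem _ hg2, theta,
          ← β.prod_comp (fun b => σ' b (B'.blk b ⟨_, hg2⟩)), map_prod, ← Finset.prod_mul_distrib]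
        refine Finset.prod_congr rfl fun a _ => ?_
        rw [hblk g hg1 hg2 a, hη])
  have h2 : ∑ l : B.Levi F, ∏ a, σ a (l a) * conj (η a (l a)) =
      (Fintype.card (B.Levi F) : ℂ) * if η = σ then 1 else 0 := by
    rw [← Fintype.prod_sum fun a l => σ a l * conj (η a l)]
    simp only [CfsgLib.Char.sum_eq_card_mul_classInner, Finset.prod_mul_distrib]
    rw [Fintype.card_pi, Nat.cast_prod]
    congr 1
    · exact Finset.prod_congr rfl fun a _ => by rw [Nat.card_eq_fintype_card]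
    · split_ifs with he
      · subst he
        exact Finset.prod_eq_one fun a _ => CfsgLib.Char.IsIrrCharacter.classInner_self (hηirr a)
      · obtain ⟨a, ha⟩ := Function.ne_iff.1 he
        exact Finset.prod_eq_zero (Finset.mem_univ a)
          (CfsgLib.Char.IsIrrCharacter.classInner_of_ne (hσ a).1 (hηirr a) (Ne.symm ha))
  rw [h2] at h1
  rw [twistSum_eq_meet, if_congr hkey rfl rfl]
  have hL : (Fintype.card (B.Levi F) : ℂ) ≠ 0 := by exact_mod_cast Fintype.card_ne_zero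
  refine mul_left_cancel₀ hL (h1.trans ?_)
  split_ifs <;> ring

/-- A split block kills the twisted sum. -/
theorem lab_const_of_ne_zero {σ : B.Data F} (hσ : Good σ) {b : B'.P F → ℂ} {π : Equiv.Perm (Fin n)}
    {σ' : B'.Data F} (hb : b = theta σ')
    (hne : twistSum (B.P F) (B'.P F) (theta σ) b (CfsgLib.GLn.permGL F π) ≠ 0) {i j : Fin n}
    (hij : B.lab i = B.lab j) : B'.lab (π.symm i) = B'.lab (π.symm j) := by
  classical
  subst hb
  by_contra hcon
  refine hne ?_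
  obtain ⟨a, x₀, rfl⟩ := B.exists_E i
  rw [B.lab_E] at hij
  obtain ⟨y₀, rfl⟩ := B.exists_E_of_lab hij.symm
  obtain ⟨ℓ, hℓ⟩ : ∃ ℓ : Fin (B.m a) → Fin B'.k, ℓ = fun x => B'.lab (π.symm (B.E ⟨a, x⟩)) := ⟨_, rfl⟩
  have hℓne : ∃ x y, ℓ x < ℓ y := by
    rcases lt_or_gt_of_ne hcon with h' | h'
    · exact ⟨x₀, y₀, by rw [hℓ]; exact h'⟩
    · exact ⟨y₀, x₀, by rw [hℓ]; exact h'⟩
  have hzero := (hσ a).2.sumOn_rad (CfsgLib.Char.IsIrrCharacter.isCharacter (hσ a).1) ℓ hℓne
  obtain ⟨w, hw⟩ : ∃ w, w = CfsgLib.GLn.permGL F π := ⟨_, rfl⟩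
  obtain ⟨ι, hι⟩ : ∃ ι : GL (Fin (B.m a)) F → GL (Fin n) F,
      ι = fun v => B.sec (Pi.mulSingle a v) := ⟨_, rfl⟩
  have hιU : ∀ v ∈ rad F ℓ, w⁻¹ * ι v * w ∈ B'.U F := fun v hv => by
    refine mem_rad.2 fun p q hpq => ?_
    rw [hw, conj_perm_apply, show (1 : Matrix (Fin n) (Fin n) F) p q =
      (1 : Matrix (Fin n) (Fin n) F) (π p) (π q) by simp [Matrix.one_apply, π.injective.eq_iff], hι]
    obtain ⟨c, z, hz⟩ := B.exists_E (π p)
    rw [← hz]
    by_cases hlab : B.lab (π q) = c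
    · obtain ⟨z', hz'⟩ := B.exists_E_of_lab hlab
      rw [← hz', B.sec_apply_same]
      by_cases hca : c = a
      · subst hca
        rw [Pi.mulSingle_eq_same, mem_rad.1 hv z z' ?_]
        · simp [Matrix.one_apply]
        · simp only [hℓ, hz, hz', Equiv.symm_apply_apply]
          exact hpq
      · rw [Pi.mulSingle_eq_of_ne hca, Units.val_one]
        simp [Matrix.one_apply]
    · rw [B.sec_apply_ne _ (by rw [B.lab_E]; exact Ne.symm hlab), Matrix.one_apply_ne]
      intro he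
      rw [← he, B.lab_E] at hlab
      exact hlab rfl
  have hιmeet : ∀ v ∈ rad F ℓ, ι v ∈ meet (B.P F) (B'.P F) w := fun v hv =>
    mem_meet.2 ⟨by rw [hι]; exact B.sec_mem _, rad_le_parab _ (hιU v hv)⟩
  obtain ⟨f, hf⟩ : ∃ f : GL (Fin n) F → ℂ, f = fun g => Cfsg.extendByZero (B.P F) (theta σ) g *
      conj (Cfsg.extendByZero (B'.P F) (theta σ') (w⁻¹ * g * w)) := ⟨_, rfl⟩
  rw [twistSum_eq_meet, ← hw]
  show sumOn (meet (B.P F) (B'.P F) w) (fun g => Cfsg.extendByZero (B.P F) (theta σ) g *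
      conj (Cfsg.extendByZero (B'.P F) (theta σ') (w⁻¹ * g * w))) = 0
  rw [← hf]
  have h1 : sumOn (rad F ℓ) (fun v => sumOn (meet (B.P F) (B'.P F) w) fun g => f (ι v * g)) = 0 := by
    simp only [sumOn]
    rw [Finset.sum_comm]
    refine Finset.sum_eq_zero fun g hg => ?_
    obtain ⟨hg1, hg2⟩ := mem_meet.1 (Finset.mem_filter.1 hg).2
    rw [Finset.sum_congr rfl (g := fun v => σ a (v * B.proj ⟨g, hg1⟩ a) *
      ((∏ b ∈ Finset.univ.erase a, σ b (B.proj ⟨g, hg1⟩ b)) *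
        conj (Cfsg.extendByZero (B'.P F) (theta σ') (w⁻¹ * g * w)))) fun v hv => ?_, ← Finset.sum_mul]
    · have := sumOn_translate_eq_zero (CfsgLib.Char.IsIrrCharacter.isCharacter (hσ a).1) (rad F ℓ) hzero
        (B.proj ⟨g, hg1⟩ a)
      rw [sumOn] at this
      rw [this, zero_mul]
    · have hv' := (Finset.mem_filter.1 hv).2
      obtain ⟨hU, hproj⟩ := B'.mem_U_iff.1 (hιU v hv')
      have hm1 : ι v * g ∈ B.P F := mul_mem (by rw [hι]; exact B.sec_mem _) hg1
      have e1 : B.proj ⟨ι v * g, hm1⟩ = Pi.mulSingle a v * B.proj ⟨g, hg1⟩ := by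
        subst hι
        have : (⟨B.sec (Pi.mulSingle a v) * g, hm1⟩ : B.P F) = ⟨_, B.sec_mem _⟩ * ⟨g, hg1⟩ := rfl
        rw [this, map_mul, B.proj_sec]
      have e2 : w⁻¹ * (ι v * g) * w = (w⁻¹ * ι v * w) * (w⁻¹ * g * w) := by group
      rw [hf]
      dsimp only
      rw [extendByZero_theta σ hm1, e1, e2, extendByZero_theta σ' (mul_mem hU hg2), extendByZero_theta σ' hg2,
        ← Finset.mul_prod_erase _ _ (Finset.mem_univ a)]
      have e3 : B'.proj ⟨(w⁻¹ * ι v * w) * (w⁻¹ * g * w), mul_mem hU hg2⟩ =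
          B'.proj ⟨w⁻¹ * g * w, hg2⟩ := by
        have : (⟨(w⁻¹ * ι v * w) * (w⁻¹ * g * w), mul_mem hU hg2⟩ : B'.P F) =
            ⟨_, hU⟩ * ⟨_, hg2⟩ := rfl
        rw [this, map_mul, hproj, one_mul]
      rw [e3, Finset.prod_congr rfl (g := fun b => σ b (B.proj ⟨g, hg1⟩ b)) fun b hb => ?_, Pi.mul_apply,
        Pi.mulSingle_eq_same, mul_assoc]
      rw [Pi.mul_apply, Pi.mulSingle_eq_of_ne (Finset.mem_erase.1 hb).1, one_mul]
  rw [sumOn_congr (fun v hv => sumOn_mul_left _ (hιmeet v hv) f), sumOn_const] at h1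
  exact (mul_eq_zero.1 h1).resolve_left (card_ne_zero _)

/-- A nonzero twisted sum gives a matching. -/
theorem exists_match_of_ne_zero {σ : B.Data F} (hσ : Good σ) {σ' : B'.Data F} (hσ' : Good σ')
    {π : Equiv.Perm (Fin n)}
    (hne : twistSum (B.P F) (B'.P F) (theta σ) (theta σ') (CfsgLib.GLn.permGL F π) ≠ 0) :
    ∃ β, B.Match B' β π ∧ key σ' ∘ β = key σ := by
  classical
  have h1 : ∀ i j, B.lab i = B.lab j → B'.lab (π.symm i) = B'.lab (π.symm j) :=
    fun i j => lab_const_of_ne_zero hσ rfl hne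
  have hne' : twistSum (B'.P F) (B.P F) (theta σ') (theta σ) (CfsgLib.GLn.permGL F π.symm) ≠ 0 := by
    intro h0
    refine hne ?_
    rw [twistSum_symm, ← map_inv, show π⁻¹ = π.symm from rfl, h0, map_zero]
  have h2 : ∀ i j, B'.lab i = B'.lab j → B.lab (π i) = B.lab (π j) := fun i j hij => by
    simpa using lab_const_of_ne_zero hσ' rfl hne' hij
  obtain ⟨β₀, hβ₀⟩ : ∃ β₀ : Fin B.k → Fin B'.k, β₀ = fun a => B'.lab (π.symm (B.E ⟨a, ⟨0, B.pos a⟩⟩)) :=
    ⟨_, rfl⟩
  have hval : ∀ j, β₀ (B.lab (π j)) = B'.lab j := fun j => by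
    rw [hβ₀]
    refine (h1 _ (π j) (B.lab_E _ _)).trans ?_
    rw [Equiv.symm_apply_apply]
  have hbij : Function.Bijective β₀ := by
    constructor
    · intro a b h
      rw [hβ₀] at h
      have := h2 _ _ h
      simpa [B.lab_E] using this
    · intro c
      obtain ⟨j, hj⟩ : ∃ j, B'.lab j = c := ⟨B'.E ⟨c, ⟨0, B'.pos c⟩⟩, B'.lab_E _ _⟩
      exact ⟨B.lab (π j), (hval j).trans hj⟩
  have hmatch : B.Match B' (Equiv.ofBijective β₀ hbij) π := fun j => by
    rw [Equiv.ofBijective_apply, hval]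
  refine ⟨_, hmatch, ?_⟩
  by_contra hk
  rw [hmatch.twistSum_eq hσ hσ', if_neg hk] at hne
  exact hne rfl

theorem Match.unique {β β' : Fin B.k ≃ Fin B'.k} {π π' : Equiv.Perm (Fin n)} (h : B.Match B' β π)
    (h' : B.Match B' β' π') {p k : GL (Fin n) F} (hp : p ∈ B.P F) (hk : k ∈ B'.P F)
    (he : CfsgLib.GLn.permGL F π' = p * CfsgLib.GLn.permGL F π * k) : β = β' := by
  classical
  have he' : p⁻¹ * CfsgLib.GLn.permGL F π' = CfsgLib.GLn.permGL F π * k := by
    rw [he]; group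
  have hent : ∀ i j, k i j ≠ 0 → B'.lab i ≤ B'.lab j ∧ B.lab (π i) ≤ B.lab (π' j) := by
    intro i j hne
    refine ⟨not_lt.1 fun hlt => hne (mem_parab.1 hk i j hlt), not_lt.1 fun hlt => hne ?_⟩
    have := congrArg (fun g : GL (Fin n) F => g (π i) j) he'
    have e1 : mono π (fun _ => (1 : Fˣ)) = CfsgLib.GLn.permGL F π := by
      refine Units.ext (Matrix.ext fun a b => ?_)
      rw [mono_apply, CfsgLib.GLn.permGL_apply, Units.val_one]
    have e2 : mono π' (fun _ => (1 : Fˣ)) = CfsgLib.GLn.permGL F π' := by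
      refine Units.ext (Matrix.ext fun a b => ?_)
      rw [mono_apply, CfsgLib.GLn.permGL_apply, Units.val_one]
    simp only [← e1, ← e2, Units.val_mul] at this
    rw [mono_mul_apply, mul_mono_apply, mem_parab.1 (inv_mem hp) _ _ hlt, Units.val_one, zero_mul,
      one_mul] at this
    exact this.symm
  have hdet : (k : Matrix (Fin n) (Fin n) F).det ≠ 0 := Matrix.GeneralLinearGroup.det_ne_zero k
  rw [Matrix.det_apply] at hdet
  obtain ⟨τ, -, hτ⟩ := Finset.exists_ne_zero_of_sum_ne_zero hdet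
  have hτ' : ∀ j, k (τ j) j ≠ 0 := fun j hj => hτ (by
    rw [Finset.prod_eq_zero (f := fun i => k (τ i) i) (Finset.mem_univ j) hj, smul_zero])
  have hs1 : ∑ j, (B'.lab (τ j)).val = ∑ j, (B'.lab j).val := Equiv.sum_comp τ fun j => (B'.lab j).val
  have hs2 : ∑ j, (B.lab (π (τ j))).val = ∑ j, (B.lab (π' j)).val :=
    (Equiv.sum_comp (τ.trans π) fun j => (B.lab j).val).trans
      (Equiv.sum_comp π' fun j => (B.lab j).val).symm
  have heq1 : ∀ j, B'.lab (τ j) = B'.lab j := fun j =>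
    Fin.ext ((Finset.sum_eq_sum_iff_of_le fun j _ => Fin.le_def.1 (hent _ _ (hτ' j)).1).1 hs1 j (Finset.mem_univ j))
  have heq2 : ∀ j, B.lab (π (τ j)) = B.lab (π' j) := fun j =>
    Fin.ext ((Finset.sum_eq_sum_iff_of_le fun j _ => Fin.le_def.1 (hent _ _ (hτ' j)).2).1 hs2 j (Finset.mem_univ j))
  refine Equiv.ext fun a => ?_
  obtain ⟨j, hj⟩ : ∃ j, B.lab (π' j) = a := ⟨π'.symm (B.E ⟨a, ⟨0, B.pos a⟩⟩), by simp [B.lab_E]⟩
  have := heq1 j
  rw [h, h', heq2, hj] at this
  exact this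

/-- The norm formula for parabolic induction of cuspidal data. -/
theorem classInner_ind {σ : B.Data F} (hσ : Good σ) {σ' : B'.Data F} (hσ' : Good σ') :
    Cfsg.classInner (ind σ) (ind σ') =
      (Nat.card {β : Fin B.k ≃ Fin B'.k // key σ' ∘ β = key σ} : ℂ) := by
  classical
  haveI : Fintype {β : Fin B.k ≃ Fin B'.k // key σ' ∘ β = key σ} := Fintype.ofFinite _
  have hex : ∀ β : {β : Fin B.k ≃ Fin B'.k // key σ' ∘ β = key σ}, ∃ π, B.Match B' β.1 π := fun β =>
    exists_match fun a => congrArg Sigma.fst (congrFun β.2 a)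
  choose rep hrep using hex
  obtain ⟨R, hR⟩ : ∃ R : Finset (GL (Fin n) F),
      R = Finset.univ.image fun β => CfsgLib.GLn.permGL F (rep β) := ⟨_, rfl⟩
  have hinj : Function.Injective fun β => CfsgLib.GLn.permGL F (rep β) := fun β β' he =>
    Subtype.ext ((hrep β).unique (hrep β') (one_mem (B.P F)) (one_mem (B'.P F))
      (by rw [one_mul, mul_one]; exact he.symm))
  rw [ind, ind, classInner_ind_ind hσ.isClassFunction hσ'.isClassFunction R]
  · rw [hR, Finset.sum_image fun a _ b _ h => hinj h, Finset.sum_congr rfl (g := fun _ => (1 : ℂ))]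
    · rw [Finset.sum_const, nsmul_eq_mul, mul_one, Finset.card_univ, Nat.card_eq_fintype_card]
    · intro β _
      rw [← twistSum_eq_meet, (hrep β).twistSum_eq hσ hσ', if_pos β.2, inv_mul_cancel₀ (card_ne_zero _)]
  · intro y hy
    obtain ⟨s, b, hb, c, hc, rfl⟩ := CfsgLib.GLn.exists_bruhat y
    rw [twistSum_mul hσ.isClassFunction hσ'.isClassFunction (B.upperTriangular_le hb)
      (B'.upperTriangular_le hc)] at hy
    obtain ⟨β, hβ, hk⟩ := exists_match_of_ne_zero hσ hσ' hy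
    obtain ⟨r, hr⟩ : ∃ r, r = rep ⟨β, hk⟩ := ⟨_, rfl⟩
    have hr' : B.Match B' β r := hr ▸ hrep ⟨β, hk⟩
    refine ⟨CfsgLib.GLn.permGL F r, ?_, b * CfsgLib.GLn.permGL F (s * r⁻¹),
      mul_mem (B.upperTriangular_le hb) (B.perm_mem fun i => β.injective ?_), c,
      B'.upperTriangular_le hc, ?_⟩
    · rw [hR, hr]
      exact Finset.mem_image.2 ⟨⟨β, hk⟩, Finset.mem_univ _, rfl⟩
    · rw [Equiv.Perm.mul_apply, ← hβ, hr', Equiv.Perm.coe_inv, Equiv.apply_symm_apply]
    · rw [map_mul, map_inv]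
      group
  · intro r hr r' hr' p hp k hk he
    rw [hR] at hr hr'
    obtain ⟨β, -, rfl⟩ := Finset.mem_image.1 hr
    obtain ⟨β', -, rfl⟩ := Finset.mem_image.1 hr'
    obtain rfl : β = β' := Subtype.ext ((hrep β).unique (hrep β') hp hk he)
    rfl

/-- Equal multisets of pieces induce to the same character. -/
theorem ind_eq {σ : B.Data F} (hσ : Good σ) {σ' : B'.Data F} (hσ' : Good σ')
    (β₀ : Fin B.k ≃ Fin B'.k) (hβ₀ : key σ' ∘ β₀ = key σ) : ind σ = ind σ' := by
  classical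
  have e : key σ ∘ β₀.symm = key σ' := by
    rw [← hβ₀]; funext x; simp
  have c1 : Nat.card {β : Fin B.k ≃ Fin B'.k // key σ' ∘ β = key σ} =
      Nat.card {β : Fin B.k ≃ Fin B.k // key σ ∘ β = key σ} :=
    Nat.card_congr (Equiv.subtypeEquiv ((Equiv.refl _).equivCongr β₀.symm) fun β => by
      conv_rhs => rw [← hβ₀]
      simp only [Function.comp_def, Equiv.equivCongr_apply_apply, Equiv.refl_symm, Equiv.refl_apply,
        Equiv.apply_symm_apply, funext_iff]
      refine forall_congr' fun x => ?_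
      rw [show key σ' (β₀ x) = key σ x from congrFun hβ₀ x])
  have c2 : Nat.card {β : Fin B'.k ≃ Fin B'.k // key σ' ∘ β = key σ'} =
      Nat.card {β : Fin B.k ≃ Fin B'.k // key σ' ∘ β = key σ} :=
    Nat.card_congr (Equiv.subtypeEquiv (β₀.symm.equivCongr (Equiv.refl _)) fun β => by
      simp only [Function.comp_def, Equiv.equivCongr_apply_apply, Equiv.symm_symm, Equiv.refl_apply,
        funext_iff]
      constructor
      · intro h x
        rw [h, show key σ' (β₀ x) = key σ x from congrFun hβ₀ x]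
      · intro h x
        obtain ⟨z, rfl⟩ := β₀.surjective x
        rw [h z, show key σ' (β₀ z) = key σ z from congrFun hβ₀ z])
  have h1 := classInner_ind hσ hσ
  have h2 := classInner_ind hσ hσ'
  have h3 := classInner_ind hσ' hσ'
  have h4 : Cfsg.classInner (ind σ') (ind σ) = Cfsg.classInner (ind σ) (ind σ') := by
    rw [← CfsgLib.Char.classInner_conj, h2, Complex.conj_natCast]
  have hz : Cfsg.classInner (ind σ - ind σ') (ind σ - ind σ') = 0 := by
    rw [CfsgLib.Char.classInner_sub_left, CfsgLib.Char.classInner_sub_right,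
      CfsgLib.Char.classInner_sub_right, h4, h1, h2, h3, c2, ← c1]
    ring
  exact sub_eq_zero.1 (CfsgLib.Char.classInner_self_eq_zero hz)

end Blocks

end CfsgLib.GLCusp
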