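import Cfsg.Agent.GLCusp.Blocks
import Cfsg.Agent.Char.Orthogonality
import Cfsg.Agent.Char.Induction
import Mathlib.Data.Fin.Tuple.Sort

/-!
# Pieces of cuspidal data and parabolic induction
-/

set_option autoImplicit false
set_option linter.unusedSectionVars false

namespace CfsgLib.GLCusp

open Matrix
open scoped MatrixGroups ComplexConjugate

universe u

variable {F : Type u} [Field F] [Fintype F] [DecidableEq F] {n : ℕ}

/-! ### General vanishing for cuspidal characters -/

theorem sumOn_eq_zero_of_le {G : Type u} [Group G] [Fintype G] {χ : G → ℂ}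
    (hχ : Cfsg.IsCharacter G χ) {V W : Subgroup G} (hVW : V ≤ W) (h : sumOn V χ = 0) :
    sumOn W χ = 0 := by
  classical
  have h1 : sumOn V (fun v => sumOn W fun g => χ (v * g)) = 0 := by
    simp only [sumOn]
    rw [Finset.sum_comm]
    exact Finset.sum_eq_zero fun g _ => sumOn_translate_eq_zero hχ V h g
  rw [sumOn_congr (fun v hv => sumOn_mul_left _ (hVW hv) χ), sumOn_const] at h1
  exact (mul_eq_zero.1 h1).resolve_left (card_ne_zero V)

/-- A cuspidal character has no fixed vectors for any nontrivial labelling radical. -/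
theorem Cuspidal.sumOn_rad {α : Type*} [LinearOrder α] {χ : GL (Fin n) F → ℂ}
    (hχ : Cfsg.IsCharacter (GL (Fin n) F) χ) (hc : Cuspidal χ) (ℓ : Fin n → α)
    (hne : ∃ x y, ℓ x < ℓ y) : sumOn (rad F ℓ) χ = 0 := by
  classical
  obtain ⟨x, y, hxy⟩ := hne
  obtain ⟨ℓ₂, hℓ₂⟩ : ∃ ℓ₂ : Fin n → ℕ, ℓ₂ = fun i => if ℓ i ≤ ℓ x then 0 else 1 := ⟨_, rfl⟩
  have hle : rad F ℓ₂ ≤ rad F ℓ := fun g hg => mem_rad.2 fun i j hji => mem_rad.1 hg i j (by
    simp only [hℓ₂]
    split_ifs with h1 h2
    · exact le_rfl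
    · exact Nat.zero_le _
    · exact absurd (hji.trans ‹ℓ i ≤ ℓ x›) h1
    · exact le_rfl)
  refine sumOn_eq_zero_of_le hχ hle ?_
  obtain ⟨π, hπ⟩ : ∃ π, π = Tuple.sort ℓ₂ := ⟨_, rfl⟩
  have hmono : Monotone (ℓ₂ ∘ π) := hπ ▸ Tuple.monotone_sort ℓ₂
  obtain ⟨s, hs⟩ : ∃ s, s = (Finset.univ.filter fun i => (ℓ₂ ∘ π) i = 0).card := ⟨_, rfl⟩
  have h01 : ∀ i, (ℓ₂ ∘ π) i = 0 ∨ (ℓ₂ ∘ π) i = 1 := fun i => by
    simp only [hℓ₂, Function.comp_apply]
    split_ifs <;> simp
  have hsplit : ℓ₂ ∘ π = splitLab s := by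
    funext i
    rw [splitLab]
    rcases h01 i with hi | hi
    · rw [hi, if_pos]
      have hsub : Finset.Iic i ⊆ Finset.univ.filter fun j => (ℓ₂ ∘ π) j = 0 := fun j hj => by
        have := hmono (Finset.mem_Iic.1 hj)
        simp only [Finset.mem_filter, Finset.mem_univ, true_and]
        omega
      have := Finset.card_le_card hsub
      rw [Fin.card_Iic] at this
      omega
    · rw [hi, if_neg]
      have hsub : (Finset.univ.filter fun j => (ℓ₂ ∘ π) j = 0) ⊆ Finset.Iio i := fun j hj => by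
        simp only [Finset.mem_filter, Finset.mem_univ, true_and] at hj
        refine Finset.mem_Iio.2 (not_le.1 fun hij => ?_)
        have := hmono hij
        omega
      have := Finset.card_le_card hsub
      rw [Fin.card_Iio] at this
      omega
  have hs0 : 0 < s := by
    rw [hs]
    refine Finset.card_pos.2 ⟨π.symm x, ?_⟩
    simp [hℓ₂]
  have hsn : s < n := by
    refine hs ▸ lt_of_lt_of_eq (Finset.card_lt_card ((Finset.ssubset_iff_of_subset
      (Finset.subset_univ _)).2 ⟨π.symm y, Finset.mem_univ _, ?_⟩)) (by simp)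
    simp [hℓ₂, not_le.2 hxy]
  rw [← hc s hs0 hsn, ← hsplit]
  simp only [sumOn]
  refine Finset.sum_equiv (MulAut.conj (CfsgLib.GLn.permGL F π)⁻¹).toEquiv (fun g => ?_) fun g _ => ?_
  · simp only [Finset.mem_filter, Finset.mem_univ, true_and, MulEquiv.toEquiv_eq_coe, EquivLike.coe_coe,
      MulAut.conj_apply, inv_inv, mem_rad, conj_perm_apply, Function.comp_apply]
    constructor
    · intro hg i j hij
      rw [hg _ _ hij]
      simp [Matrix.one_apply, π.injective.eq_iff]
    · intro hg i j hij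
      have := hg (π.symm i) (π.symm j) (by simpa using hij)
      simpa [Matrix.one_apply, π.symm.injective.eq_iff] using this
  · simp only [MulEquiv.toEquiv_eq_coe, EquivLike.coe_coe, MulAut.conj_apply]
    exact (CfsgLib.Char.IsCharacter.isClassFunction hχ g _).symm

/-! ### Change of coordinates -/

/-- Renaming the coordinates. -/
def glReindex {d d' : ℕ} (τ : Fin d ≃ Fin d') : GL (Fin d) F ≃* GL (Fin d') F :=
  Units.mapEquiv (Matrix.reindexAlgEquiv F F τ).toMulEquiv

theorem glReindex_apply {d d' : ℕ} (τ : Fin d ≃ Fin d') (g : GL (Fin d) F) (x y : Fin d') :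
    glReindex τ g x y = g (τ.symm x) (τ.symm y) := rfl

theorem glReindex_self {d : ℕ} (τ : Fin d ≃ Fin d) (g : GL (Fin d) F) :
    glReindex τ g = (CfsgLib.GLn.permGL F τ.symm)⁻¹ * g * CfsgLib.GLn.permGL F τ.symm :=
  Units.ext (Matrix.ext fun x y => by rw [glReindex_apply, conj_perm_apply])

/-- An unordered piece of data. -/
abbrev Piece (F : Type u) [Field F] : Type u := (d : ℕ) × (GL (Fin d) F → ℂ)

theorem piece_eq_iff {d d' : ℕ} (τ : Fin d ≃ Fin d') {σ : GL (Fin d) F → ℂ} {σ' : GL (Fin d') F → ℂ}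
    (hσ' : Cfsg.IsClassFunction (GL (Fin d') F) σ') :
    (⟨d', σ'⟩ : Piece F) = ⟨d, σ⟩ ↔ (fun g => σ' (glReindex τ g)) = σ := by
  obtain rfl : d = d' := by simpa using Fintype.card_congr τ
  have : (fun g => σ' (glReindex τ g)) = σ' := funext fun g => by
    rw [glReindex_self]
    simpa using hσ' g (CfsgLib.GLn.permGL F τ.symm)⁻¹
  rw [this]
  simp

/-! ### Data on a block decomposition -/

namespace Blocks

variable (B : Blocks n)

/-- A function on each block. -/
abbrev Data (F : Type u) [Field F] : Type u := (a : Fin B.k) → GL (Fin (B.m a)) F → ℂ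

variable {B}

/-- The piece in a block. -/
def key (σ : B.Data F) (a : Fin B.k) : Piece F := ⟨B.m a, σ a⟩

/-- Irreducible cuspidal data. -/
def Good (σ : B.Data F) : Prop :=
  ∀ a, Cfsg.IsIrrCharacter (GL (Fin (B.m a)) F) (σ a) ∧ Cuspidal (σ a)

/-- The inflation to the parabolic subgroup. -/
noncomputable def theta (σ : B.Data F) : B.P F → ℂ := fun g => ∏ a, σ a (B.blk a g)

theorem isCharacter_theta {σ : B.Data F} (hσ : ∀ a, Cfsg.IsCharacter (GL (Fin (B.m a)) F) (σ a)) :
    Cfsg.IsCharacter (B.P F) (theta σ) := by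
  classical
  have key : ∀ s : Finset (Fin B.k), Cfsg.IsCharacter (B.P F) fun g => ∏ a ∈ s, σ a (B.blk a g) := by
    intro s
    induction s using Finset.induction with
    | empty => simpa using CfsgLib.Char.isCharacter_one (G := B.P F)
    | insert a s ha ih =>
      have h2 := CfsgLib.Char.IsCharacter.mul (CfsgLib.Char.IsCharacter.comp (hσ a) (B.blk a)) ih
      simp only [Finset.prod_insert ha]
      exact h2
  exact key Finset.univ

theorem Good.isCharacter {σ : B.Data F} (h : Good σ) : Cfsg.IsCharacter (B.P F) (theta σ) :=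
  isCharacter_theta fun a => CfsgLib.Char.IsIrrCharacter.isCharacter (h a).1

theorem Good.isClassFunction {σ : B.Data F} (h : Good σ) : Cfsg.IsClassFunction (B.P F) (theta σ) :=
  CfsgLib.Char.IsCharacter.isClassFunction h.isCharacter

/-- Parabolic induction. -/
noncomputable def ind (σ : B.Data F) : GL (Fin n) F → ℂ := Cfsg.indFun (B.P F) (theta σ)

theorem Good.isCharacter_ind {σ : B.Data F} (h : Good σ) : Cfsg.IsCharacter (GL (Fin n) F) (ind σ) :=
  CfsgLib.Char.IsCharacter.indFun h.isCharacter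

theorem extendByZero_theta (σ : B.Data F) {g : GL (Fin n) F} (hg : g ∈ B.P F) :
    Cfsg.extendByZero (B.P F) (theta σ) g = ∏ a, σ a (B.proj ⟨g, hg⟩ a) :=
  CfsgLib.Char.extendByZero_of_mem _ hg

/-- Averaging over the Levi factor. -/
theorem sumOn_proj {S : Subgroup (GL (Fin n) F)} (hS : S ≤ B.P F) (hsec : ∀ l : B.Levi F, B.sec l ∈ S)
    (f : B.Levi F → ℂ) (g : GL (Fin n) F → ℂ) (hg : ∀ x (hx : x ∈ S), g x = f (B.proj ⟨x, hS hx⟩)) :
    (Fintype.card (B.Levi F) : ℂ) * sumOn S g = (Nat.card S : ℂ) * ∑ l, f l := by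
  classical
  haveI := Fintype.ofFinite S
  have h1 : ∀ l, sumOn S g = ∑ x : S, f (l * B.proj ⟨x, hS x.2⟩) := fun l => by
    rw [← sumOn_mul_left S (hsec l), sumOn_eq_sum]
    refine Finset.sum_congr rfl fun x _ => ?_
    rw [hg _ (mul_mem (hsec l) x.2)]
    congr 1
    have : (⟨B.sec l * (x : GL (Fin n) F), hS (mul_mem (hsec l) x.2)⟩ : B.P F) =
        ⟨B.sec l, B.sec_mem l⟩ * ⟨x, hS x.2⟩ := rfl
    rw [this, map_mul, B.proj_sec]
  calc (Fintype.card (B.Levi F) : ℂ) * sumOn S g = ∑ l : B.Levi F, sumOn S g := by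
        rw [Finset.sum_const, Finset.card_univ, nsmul_eq_mul]
    _ = ∑ x : S, ∑ l : B.Levi F, f (l * B.proj ⟨x, hS x.2⟩) := by
        rw [Finset.sum_congr rfl fun l _ => h1 l, Finset.sum_comm]
    _ = ∑ x : S, ∑ l : B.Levi F, f l :=
        Finset.sum_congr rfl fun x _ => Equiv.sum_comp (Equiv.mulRight _) f
    _ = (Nat.card S : ℂ) * ∑ l, f l := by
        rw [Finset.sum_const, Finset.card_univ, nsmul_eq_mul, Nat.card_eq_fintype_card]

end Blocks

end CfsgLib.GLCusp
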