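import Cfsg.Agent.GLCusp.Groups

/-!
# The monomial matrices seen by the generic character
-/

set_option autoImplicit false
set_option linter.unusedSectionVars false

namespace CfsgLib.GLCusp

universe u v

variable {n : ℕ} {α : Type v}

/-- The condition on a monomial matrix under which it carries the generic character. -/
def Relevant (π : Equiv.Perm (Fin n)) (t : Fin n → α) : Prop :=
  ∀ i j : Fin n, i < j → π i < π j →
    ((π j).val = (π i).val + 1 ↔ j.val = i.val + 1) ∧ (j.val = i.val + 1 → t i = t j)

theorem Relevant.gap {π : Equiv.Perm (Fin n)} {t : Fin n → α} (h : Relevant π t) {i j : Fin n}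
    (hij : i < j) (hp : π i < π j) :
    (π j).val + i.val = (π i).val + j.val ∧ t i = t j := by
  suffices H : ∀ (k : ℕ) (i j : Fin n), i < j → π i < π j →
      (j.val ≤ i.val + k ∨ (π j).val ≤ (π i).val + k) →
      (π j).val + i.val = (π i).val + j.val ∧ t i = t j from
    H n i j hij hp (Or.inl (by have := j.isLt; omega))
  intro k
  induction k with
  | zero =>
    intro i j hij hp hk
    rw [Fin.lt_def] at hij hp
    omega
  | succ k ih =>
    intro i j hij hp hk
    have hij' := hij
    have hp' := hp
    rw [Fin.lt_def] at hij' hp'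
    rcases le_total (j.val + (π i).val) ((π j).val + i.val) with hle | hle
    · have hk' : j.val ≤ i.val + (k + 1) := by omega
      obtain ⟨p, hpv⟩ : ∃ p : Fin n, p.val = i.val + 1 :=
        ⟨⟨i.val + 1, by have := j.isLt; omega⟩, rfl⟩
      have hip : i < p := by rw [Fin.lt_def]; omega
      by_cases hpj : p = j
      · subst hpj
        obtain ⟨h1, h2⟩ := h i p hij hp
        have := h1.2 hpv
        exact ⟨by omega, h2 hpv⟩
      · have hpjv : p.val ≠ j.val := fun e => hpj (Fin.ext e)
        have hplt : p < j := by rw [Fin.lt_def]; omega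
        have hne : (π p).val ≠ (π i).val := fun e => (ne_of_gt hip) (π.injective (Fin.ext e))
        have hne' : (π p).val ≠ (π j).val := fun e => hpj (π.injective (Fin.ext e))
        rcases lt_or_gt_of_ne hne with hlt | hgt
        · exfalso
          have := (ih p j hplt (by rw [Fin.lt_def]; omega) (Or.inl (by omega))).1
          omega
        · obtain ⟨h1, h2⟩ := h i p hip (by rw [Fin.lt_def]; omega)
          have h1' := h1.2 hpv
          obtain ⟨h3, h4⟩ := ih p j hplt (by rw [Fin.lt_def]; omega) (Or.inl (by omega))
          exact ⟨by omega, (h2 hpv).trans h4⟩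
    · have hk' : (π j).val ≤ (π i).val + (k + 1) := by omega
      obtain ⟨l, hlv⟩ : ∃ l : Fin n, (π l).val = (π i).val + 1 :=
        ⟨π.symm ⟨(π i).val + 1, by have := (π j).isLt; omega⟩, by simp⟩
      have hpl : π i < π l := by rw [Fin.lt_def]; omega
      by_cases hlj : l = j
      · subst hlj
        obtain ⟨h1, h2⟩ := h i l hij hp
        have := h1.1 hlv
        exact ⟨by omega, h2 this⟩
      · have hne' : (π l).val ≠ (π j).val := fun e => hlj (π.injective (Fin.ext e))
        have hne : l.val ≠ i.val := fun e => (ne_of_gt hpl) (by rw [Fin.ext e])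
        rcases lt_or_gt_of_ne hne with hlt | hgt
        · exfalso
          have := (ih l j (by rw [Fin.lt_def]; omega) (by rw [Fin.lt_def]; omega) (Or.inr (by omega))).1
          omega
        · obtain ⟨h1, h2⟩ := h i l (by rw [Fin.lt_def]; omega) hpl
          have h1' := h1.1 hlv
          obtain ⟨h3, h4⟩ := ih l j (by
            rw [Fin.lt_def]; have := Fin.val_ne_of_ne hlj; omega) (by rw [Fin.lt_def]; omega)
            (Or.inr (by omega))
          exact ⟨by omega, (h2 h1').trans h4⟩

/-- Between two positions of an increasing pair, the values stay in between. -/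
theorem Relevant.between {π : Equiv.Perm (Fin n)} {t : Fin n → α} (h : Relevant π t) {i l j : Fin n}
    (hil : i < l) (hlj : l < j) (hp : π i < π j) : π i < π l ∧ π l < π j := by
  have h1 := (h.gap (hil.trans hlj) hp).1
  have hne : (π l).val ≠ (π i).val := fun e => (ne_of_gt hil) (π.injective (Fin.ext e))
  have hne' : (π l).val ≠ (π j).val := fun e => (ne_of_lt hlj) (π.injective (Fin.ext e))
  simp only [Fin.lt_def] at hil hlj hp ⊢
  by_contra hcon
  rcases le_or_gt (π j).val (π l).val with hh | hh
  · have := (h.gap (i := i) (j := l) hil (by rw [Fin.lt_def]; omega)).1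
    omega
  · have := (h.gap (i := l) (j := j) hlj (by rw [Fin.lt_def]; omega)).1
    omega

theorem upClosed_mem (S : Finset (Fin n)) {i x : Fin n} (hS : ∀ j ∈ S, j < i)
    (hup : ∀ j ∈ S, ∀ l, j < l → l < i → l ∈ S) (hx : x < i) (hcard : i.val ≤ x.val + S.card) :
    x ∈ S := by
  by_contra hxS
  have hsub : S ⊆ Finset.Ioo x i := fun j hj => Finset.mem_Ioo.2 ⟨by
    rcases lt_trichotomy x j with h | h | h
    · exact h
    · exact absurd (h ▸ hj) hxS
    · exact absurd (hup j hj x h hx) hxS, hS j hj⟩
  have := Finset.card_le_card hsub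
  rw [Fin.card_Ioo] at this
  rw [Fin.lt_def] at hx
  omega

theorem downClosed_mem (S : Finset (Fin n)) {i x : Fin n} (hS : ∀ j ∈ S, i < j)
    (hdn : ∀ j ∈ S, ∀ l, i < l → l < j → l ∈ S) (hx : i < x) (hcard : x.val ≤ i.val + S.card) :
    x ∈ S := by
  by_contra hxS
  have hsub : S ⊆ Finset.Ioo i x := fun j hj => Finset.mem_Ioo.2 ⟨hS j hj, by
    rcases lt_trichotomy j x with h | h | h
    · exact h
    · exact absurd (h ▸ hj) hxS
    · exact absurd (hdn j hj x hx h) hxS⟩
  have := Finset.card_le_card hsub
  rw [Fin.card_Ioo] at this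
  rw [Fin.lt_def] at hx
  omega

/-- A relevant monomial matrix is fixed by the flip. -/
theorem Relevant.flip_fix {π : Equiv.Perm (Fin n)} {t : Fin n → α} (h : Relevant π t) (i : Fin n) :
    π (π i).rev = i.rev ∧ t (π i).rev = t i := by
  classical
  obtain ⟨a, ha⟩ : ∃ a, a = Finset.univ.filter fun j => j < i ∧ π j < π i := ⟨_, rfl⟩
  obtain ⟨b, hb⟩ : ∃ b, b = Finset.univ.filter fun j => i < j ∧ π i < π j := ⟨_, rfl⟩
  obtain ⟨c, hc⟩ : ∃ c, c = Finset.univ.filter fun j => j < i ∧ π i < π j := ⟨_, rfl⟩
  have h1 : a.card + c.card = i.val := by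
    rw [← Finset.card_union_of_disjoint]
    · have : a ∪ c = Finset.Iio i := by
        ext j
        simp only [ha, hc, Finset.mem_union, Finset.mem_filter, Finset.mem_univ, true_and,
          Finset.mem_Iio]
        exact ⟨fun hh => hh.elim And.left And.left, fun hj =>
          (lt_or_gt_of_ne (π.injective.ne hj.ne)).imp (fun x => ⟨hj, x⟩) fun x => ⟨hj, x⟩⟩
      rw [this, Fin.card_Iio]
    · rw [Finset.disjoint_left]
      intro j hj hj'
      simp only [ha, hc, Finset.mem_filter, Finset.mem_univ, true_and] at hj hj'
      exact lt_asymm hj.2 hj'.2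
  have h2 : b.card + c.card = n - 1 - (π i).val := by
    rw [← Finset.card_union_of_disjoint]
    · have : b ∪ c = (Finset.Ioi (π i)).map π.symm.toEmbedding := by
        ext j
        simp only [hb, hc, Finset.mem_union, Finset.mem_filter, Finset.mem_univ, true_and,
          Finset.mem_map_equiv, Equiv.symm_symm, Finset.mem_Ioi]
        exact ⟨fun hh => hh.elim And.right And.right, fun hj =>
          (lt_or_gt_of_ne (fun e : j = i => lt_irrefl _ (e ▸ hj))).elim
            (fun x => Or.inr ⟨x, hj⟩) fun x => Or.inl ⟨x, hj⟩⟩
      rw [this, Finset.card_map, Fin.card_Ioi]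
    · rw [Finset.disjoint_left]
      intro j hj hj'
      simp only [hb, hc, Finset.mem_filter, Finset.mem_univ, true_and] at hj hj'
      exact lt_asymm hj.1 hj'.1
  have hm := Fin.val_rev (π i)
  rcases lt_trichotomy (π i).rev i with hlt | heq | hgt
  · have hlt' := hlt
    rw [Fin.lt_def] at hlt'
    have hmem : (π i).rev ∈ a := by
      refine upClosed_mem a (fun j hj => ?_) (fun j hj l hl hli => ?_) hlt (by omega)
      · simp only [ha, Finset.mem_filter] at hj; exact hj.2.1
      · simp only [ha, Finset.mem_filter, Finset.mem_univ, true_and] at hj ⊢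
        exact ⟨hli, (h.between hl hli hj.2).2⟩
    simp only [ha, Finset.mem_filter, Finset.mem_univ, true_and] at hmem
    obtain ⟨hg, ht⟩ := h.gap hlt hmem.2
    refine ⟨Fin.ext ?_, ht⟩
    rw [Fin.val_rev]
    have := (π i).isLt; have := i.isLt
    omega
  · refine ⟨?_, by rw [heq]⟩
    rw [heq]
    conv_lhs => rw [← Fin.rev_rev (π i), heq]
  · have hgt' : i.val < (π i).rev.val := hgt
    have hmem : (π i).rev ∈ b := by
      refine downClosed_mem b (fun j hj => ?_) (fun j hj l hl hlj => ?_) hgt (by omega)
      · simp only [hb, Finset.mem_filter] at hj; exact hj.2.1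
      · simp only [hb, Finset.mem_filter, Finset.mem_univ, true_and] at hj ⊢
        exact ⟨hl, (h.between hl hlj hj.2).1⟩
    simp only [hb, Finset.mem_filter, Finset.mem_univ, true_and] at hmem
    obtain ⟨hg, ht⟩ := h.gap hgt hmem.2
    refine ⟨Fin.ext ?_, ht.symm⟩
    rw [Fin.val_rev i]
    have := (π i).isLt; have := i.isLt
    omega

/-! ### The ranking permutation of a monotone labelling -/

/-- The position of `i` when the labels are read in decreasing order, stably. -/
def rankNat (f : Fin n → ℕ) (i : Fin n) : ℕ :=
  (Finset.univ.filter fun j : Fin n => f i < f j ∨ (f j = f i ∧ j < i)).card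

theorem rankNat_lt_of {f : Fin n → ℕ} {i j : Fin n} (h : f j < f i ∨ (f i = f j ∧ i < j)) :
    rankNat f i < rankNat f j := by
  refine Finset.card_lt_card ((Finset.ssubset_iff_of_subset fun l hl => ?_).2 ⟨i, ?_, ?_⟩)
  · simp only [Finset.mem_filter, Finset.mem_univ, true_and, Fin.lt_def] at hl h ⊢
    omega
  · simp only [Finset.mem_filter, Finset.mem_univ, true_and, Fin.lt_def] at h ⊢
    omega
  · simp only [Finset.mem_filter, Finset.mem_univ, true_and, Fin.lt_def]
    omega

theorem rankNat_lt (f : Fin n → ℕ) (i : Fin n) : rankNat f i < n := by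
  refine lt_of_lt_of_le (Finset.card_lt_card (t := Finset.univ)
    ((Finset.ssubset_iff_of_subset (Finset.subset_univ _)).2 ⟨i, Finset.mem_univ i, ?_⟩)) (by simp)
  simp only [Finset.mem_filter, Finset.mem_univ, true_and, Fin.lt_def]
  omega

theorem rankNat_injective (f : Fin n → ℕ) : Function.Injective (rankNat f) := by
  intro i j hij
  by_contra hne
  have hv : i.val ≠ j.val := fun e => hne (Fin.ext e)
  by_cases h : f j < f i ∨ (f i = f j ∧ i < j)
  · exact (ne_of_lt (rankNat_lt_of h)) hij
  · refine (ne_of_lt (rankNat_lt_of (i := j) (j := i) ?_)) hij.symm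
    simp only [Fin.lt_def] at h ⊢
    omega

/-- The ranking as a permutation. -/
noncomputable def rankPerm (f : Fin n → ℕ) : Equiv.Perm (Fin n) :=
  Equiv.ofBijective (fun i => ⟨rankNat f i, rankNat_lt f i⟩)
    (Finite.injective_iff_bijective.1 fun _ _ h => rankNat_injective f (congrArg Fin.val h))

theorem rankPerm_val (f : Fin n → ℕ) (i : Fin n) : (rankPerm f i).val = rankNat f i := rfl

theorem rankPerm_lt_iff {f : Fin n → ℕ} (hf : Monotone f) {i j : Fin n} (hij : i < j) :
    rankPerm f i < rankPerm f j ↔ f i = f j := by
  rw [Fin.lt_def, rankPerm_val, rankPerm_val]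
  refine ⟨fun h => ?_, fun h => rankNat_lt_of (Or.inr ⟨h, hij⟩)⟩
  refine le_antisymm (hf hij.le) (not_lt.1 fun h' => ?_)
  exact lt_asymm h (rankNat_lt_of (Or.inl h'))

theorem rankPerm_gap {f : Fin n → ℕ} (hf : Monotone f) {i j : Fin n} (hij : i < j) (h : f i = f j) :
    (rankPerm f j).val + i.val = (rankPerm f i).val + j.val := by
  rw [rankPerm_val, rankPerm_val]
  have hset : (Finset.univ.filter fun l : Fin n => f j < f l ∨ (f l = f j ∧ l < j)) =
      (Finset.univ.filter fun l : Fin n => f i < f l ∨ (f l = f i ∧ l < i)) ∪ Finset.Ico i j := by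
    ext l
    simp only [Finset.mem_filter, Finset.mem_univ, true_and, Finset.mem_union, Finset.mem_Ico]
    by_cases h1 : i ≤ l ∧ l < j
    · have h2 : f l = f i := le_antisymm (h ▸ hf h1.2.le) (hf h1.1)
      exact ⟨fun _ => Or.inr h1, fun _ => Or.inr ⟨h2.trans h, h1.2⟩⟩
    · simp only [Fin.lt_def, Fin.le_def] at h1 hij ⊢
      omega
  have hdisj : Disjoint (Finset.univ.filter fun l : Fin n => f i < f l ∨ (f l = f i ∧ l < i))
      (Finset.Ico i j) := by
    rw [Finset.disjoint_left]
    intro l hl hl'
    simp only [Finset.mem_filter, Finset.mem_univ, true_and, Finset.mem_Ico] at hl hl'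
    have h2 : f l = f i := le_antisymm (h ▸ hf hl'.2.le) (hf hl'.1)
    simp only [Fin.lt_def, Fin.le_def] at hl hl'
    omega
  rw [rankNat, rankNat, hset, Finset.card_union_of_disjoint hdisj, Fin.card_Ico]
  rw [Fin.lt_def] at hij
  omega

theorem relevant_rankPerm {f : Fin n → ℕ} (hf : Monotone f) {t : Fin n → α}
    (ht : ∀ i j : Fin n, j.val = i.val + 1 → f i = f j → t i = t j) : Relevant (rankPerm f) t := by
  intro i j hij hp
  have hfe := (rankPerm_lt_iff hf hij).1 hp
  have hg := rankPerm_gap hf hij hfe
  exact ⟨by omega, fun h => ht i j h hfe⟩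

/-- A permutation is determined by the comparisons of its values. -/
theorem perm_ext_of_lt_iff {π π' : Equiv.Perm (Fin n)} (h : ∀ i j, π i < π j ↔ π' i < π' j) :
    π = π' := by
  have hc : ∀ (σ : Equiv.Perm (Fin n)) (i : Fin n),
      (σ i).val = (Finset.univ.filter fun l => σ l < σ i).card := fun σ i => by
    rw [← Fin.card_Iio (σ i), ← Finset.card_map σ.symm.toEmbedding]
    congr 1
    ext l
    simp [Finset.mem_map_equiv]
  refine Equiv.ext fun i => Fin.ext ?_
  rw [hc, hc]
  congr 1
  exact Finset.filter_congr fun l _ => h l i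

/-! ### Counting -/

/-- The number of descents strictly before a position, from its data. -/
def descCount {m : ℕ} {β : Type u} (o : Fin m → Option β) (i : Fin (m + 1)) : ℕ :=
  (Finset.univ.filter fun p : Fin m => p.val < i.val ∧ (o p).isSome).card

theorem descCount_mono {m : ℕ} {β : Type u} (o : Fin m → Option β) : Monotone (descCount o) :=
  fun i j hij => Finset.card_le_card fun p hp => by
    simp only [Finset.mem_filter, Finset.mem_univ, true_and] at hp ⊢
    exact ⟨lt_of_lt_of_le hp.1 hij, hp.2⟩

theorem descCount_succ {m : ℕ} {β : Type u} (o : Fin m → Option β) (p : Fin m) :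
    descCount o p.succ = descCount o p.castSucc + if (o p).isSome then 1 else 0 := by
  classical
  simp only [descCount, Fin.val_succ, Fin.val_castSucc]
  split_ifs with hs
  · rw [← Finset.card_insert_of_notMem (a := p) (by simp)]
    congr 1
    ext q
    simp only [Finset.mem_filter, Finset.mem_univ, true_and, Finset.mem_insert, Nat.lt_succ_iff_lt_or_eq]
    constructor
    · rintro ⟨h1 | h1, h2⟩
      · exact Or.inr ⟨h1, h2⟩
      · exact Or.inl (Fin.ext h1)
    · rintro (rfl | ⟨h1, h2⟩)
      · exact ⟨Or.inr rfl, hs⟩
      · exact ⟨Or.inl h1, h2⟩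
  · rw [add_zero]
    congr 1
    refine Finset.filter_congr fun q _ => ⟨fun h => ⟨?_, h.2⟩, fun h => ⟨by omega, h.2⟩⟩
    rcases Nat.lt_succ_iff_lt_or_eq.1 h.1 with h' | h'
    · exact h'
    · exact absurd (Fin.ext h' ▸ h.2) hs

/-- The values from their data. -/
def fillVal {m : ℕ} {β : Type u} (c : β) (o : Fin m → Option β) : Fin (m + 1) → β :=
  Fin.induction c fun p r => (o p).getD r

theorem fillVal_succ {m : ℕ} {β : Type u} (c : β) (o : Fin m → Option β) (p : Fin m) :
    fillVal c o p.succ = (o p).getD (fillVal c o p.castSucc) :=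
  Fin.induction_succ _ _ p

theorem fillVal_zero {m : ℕ} {β : Type u} (c : β) (o : Fin m → Option β) : fillVal c o 0 = c :=
  Fin.induction_zero _ _

theorem card_relevant {m : ℕ} {β : Type u} [Fintype β] :
    Nat.card {p : Equiv.Perm (Fin (m + 1)) × (Fin (m + 1) → β) // Relevant p.1 p.2} =
      Fintype.card β * (Fintype.card β + 1) ^ m := by
  classical
  let E : β × (Fin m → Option β) →
      {p : Equiv.Perm (Fin (m + 1)) × (Fin (m + 1) → β) // Relevant p.1 p.2} := fun d =>
    ⟨(rankPerm (descCount d.2), fillVal d.1 d.2), relevant_rankPerm (descCount_mono _) fun i j hj hf => by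
      obtain ⟨p, rfl, rfl⟩ : ∃ p : Fin m, i = p.castSucc ∧ j = p.succ :=
        ⟨⟨i.val, by have := j.isLt; omega⟩, Fin.ext rfl, Fin.ext (by simp [hj])⟩
      rw [descCount_succ] at hf
      have : ¬ (d.2 p).isSome := fun hs => by simp [hs] at hf
      simp only [Option.isSome_iff_ne_none, not_not] at this
      show fillVal d.1 d.2 p.castSucc = fillVal d.1 d.2 p.succ
      rw [fillVal_succ, this, Option.getD_none]⟩
  have hstep : ∀ (d : β × (Fin m → Option β)) (p : Fin m),
      ((rankPerm (descCount d.2)) p.castSucc < (rankPerm (descCount d.2)) p.succ ↔ d.2 p = none) := by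
    intro d p
    rw [rankPerm_lt_iff (descCount_mono _) (Fin.castSucc_lt_succ ..), descCount_succ]
    cases d.2 p <;> simp
  have hE : Function.Bijective E := by
    constructor
    · intro d d' h
      have h' := congrArg Subtype.val h
      simp only [E, Prod.mk.injEq] at h'
      refine Prod.ext ?_ (funext fun p => ?_)
      · simpa [fillVal_zero] using congrFun h'.2 0
      · have hp : d.2 p = none ↔ d'.2 p = none := by rw [← hstep, ← hstep, h'.1]
        have hv := congrFun h'.2 p.succ
        rw [fillVal_succ, fillVal_succ] at hv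
        cases hd : d.2 p with
        | none => rw [hp.1 hd]
        | some a =>
          cases hd' : d'.2 p with
          | none => rw [hp.2 hd'] at hd; exact absurd hd (by simp)
          | some b => rw [hd, hd'] at hv; simpa using hv
    · rintro ⟨⟨π, t⟩, h⟩
      obtain ⟨o, ho⟩ : ∃ o, o = fun p : Fin m =>
          if π p.castSucc < π p.succ then none else some (t p.succ) := ⟨_, rfl⟩
      have key : ∀ (d : ℕ) (i j : Fin (m + 1)), j.val = i.val + d →
          (descCount o i = descCount o j ↔ π i ≤ π j) ∧
            (π i ≤ π j → t i = t j) := by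
        intro d
        induction d with
        | zero => intro i j hj; rw [Fin.ext (a := j) (b := i) (by omega)]; simp
        | succ d ih =>
          intro i j hj
          obtain ⟨p, rfl⟩ : ∃ p : Fin m, j = p.succ :=
            ⟨⟨i.val + d, by have := j.isLt; omega⟩, Fin.ext (by simp; omega)⟩
          obtain ⟨ih1, ih2⟩ := ih i p.castSucc (by simp at hj ⊢; omega)
          have hlt : i < p.succ := by rw [Fin.lt_def]; omega
          refine ⟨?_, fun hle => (h.gap hlt (lt_of_le_of_ne hle (π.injective.ne hlt.ne))).2⟩
          have hm1 := descCount_mono o (show i ≤ p.castSucc by rw [Fin.le_def]; simp at hj ⊢; omega)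
          rw [descCount_succ]
          constructor
          · intro he
            have hnone : (o p).isSome = false := by
              cases hh : (o p).isSome
              · rfl
              · simp [hh] at he; omega
            simp [hnone] at he
            refine le_trans (ih1.1 he) (le_of_lt ?_)
            by_contra hnot
            simp [ho, hnot] at hnone
          · intro hle
            have hlt' := lt_of_le_of_ne hle (π.injective.ne hlt.ne)
            rcases eq_or_ne i p.castSucc with rfl | hne
            · simp [ho, hlt']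
            · obtain ⟨b1, b2⟩ := h.between (l := p.castSucc)
                (lt_of_le_of_ne (by rw [Fin.le_def]; simp at hj ⊢; omega) hne)
                (Fin.castSucc_lt_succ ..) hlt'
              dsimp only at b1 b2
              rw [ih1.2 b1.le]
              simp [ho, b2]
      refine ⟨(t 0, o), Subtype.ext (Prod.ext ?_ ?_)⟩
      · refine perm_ext_of_lt_iff fun i j => ?_
        have main : ∀ i j : Fin (m + 1), i < j →
            (rankPerm (descCount o) i < rankPerm (descCount o) j ↔ π i < π j) := fun i j hij => by
          rw [rankPerm_lt_iff (descCount_mono o) hij,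
            (key (j.val - i.val) i j (by rw [Fin.lt_def] at hij; omega)).1]
          exact ⟨fun hh => lt_of_le_of_ne hh (π.injective.ne hij.ne), le_of_lt⟩
        rcases lt_trichotomy i j with hij | rfl | hij
        · exact main i j hij
        · simp
        · have hm := main j i hij
          have h1 := (rankPerm (descCount o)).injective.ne hij.ne
          have h2 := π.injective.ne hij.ne
          simp only [E]
          constructor
          · intro hh
            exact lt_of_le_of_ne (not_lt.1 fun x => lt_asymm hh (hm.2 x)) h2.symm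
          · intro hh
            exact lt_of_le_of_ne (not_lt.1 fun x => lt_asymm hh (hm.1 x)) h1.symm
      · funext i
        simp only [E]
        induction i using Fin.induction with
        | zero => rw [fillVal_zero]
        | succ p ih =>
          rw [fillVal_succ, ih, ho]
          dsimp only
          split_ifs with hlt
          · rw [Option.getD_none]
            exact (h.gap (Fin.castSucc_lt_succ ..) hlt).2
          · rw [Option.getD_some]
  rw [← Nat.card_eq_of_bijective E hE, Nat.card_prod, Nat.card_fun, Nat.card_fin,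
    Nat.card_eq_fintype_card, Nat.card_eq_fintype_card, Fintype.card_option]

end CfsgLib.GLCusp
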