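import Cfsg.Agent.GLCusp.LeviGen

/-!
# Every irreducible character has cuspidal support
-/

set_option autoImplicit false
set_option linter.unusedSectionVars false

namespace CfsgLib.GLCusp

open Matrix
open scoped MatrixGroups ComplexConjugate

universe u

theorem sum_irr_mul_conj_eq_card {G : Type u} [Group G] [Fintype G] [DecidableEq G] (g h : G) :
    ∑ χ ∈ CfsgLib.Char.irrFinset G, χ g * conj (χ h) =
      ((Finset.univ.filter fun z : G => z * g * z⁻¹ = h).card : ℂ) := by
  classical
  rw [CfsgLib.Char.sum_irr_mul_conj]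
  split_ifs with hc
  · obtain ⟨c, hc'⟩ := isConj_iff.1 hc
    rw [← Nat.card_eq_finsetCard]
    congr 1
    refine Nat.card_congr
      { toFun := fun z => ⟨c * z.1, ?_⟩
        invFun := fun z => ⟨c⁻¹ * z.1, ?_⟩
        left_inv := fun z => Subtype.ext (inv_mul_cancel_left c z.1)
        right_inv := fun z => Subtype.ext (mul_inv_cancel_left c z.1) }
    · have hz := Subgroup.mem_centralizer_singleton_iff.1 z.2
      simp only [Finset.mem_filter, Finset.mem_univ, true_and]
      calc c * z.1 * g * (c * z.1)⁻¹ = c * (z.1 * g) * z.1⁻¹ * c⁻¹ := by group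
        _ = c * (g * z.1) * z.1⁻¹ * c⁻¹ := by rw [hz]
        _ = h := by rw [← hc']; group
    · have hz := (Finset.mem_filter.1 z.2).2
      rw [Subgroup.mem_centralizer_singleton_iff]
      calc c⁻¹ * z.1 * g = c⁻¹ * (z.1 * g * z.1⁻¹) * z.1 := by group
        _ = c⁻¹ * (c * g * c⁻¹) * z.1 := by rw [hz, hc']
        _ = g * (c⁻¹ * z.1) := by group
  · rw [Finset.filter_false_of_mem fun z _ hz => hc (isConj_iff.2 ⟨z, hz⟩), Finset.card_empty,
      Nat.cast_zero]

variable {F : Type u} [Field F] [Fintype F] [DecidableEq F] {n : ℕ}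

namespace Blocks

variable (B : Blocks n)

/-- The restriction of a class function to the Levi factor through the fixed points of the radical. -/
noncomputable def jacquet (χ : GL (Fin n) F → ℂ) (l : B.Levi F) : ℂ :=
  sumOn (B.U F) fun u => χ (u * B.sec l)

variable {B}

theorem jacquet_conj {χ : GL (Fin n) F → ℂ} (hχ : Cfsg.IsClassFunction (GL (Fin n) F) χ)
    (z l : B.Levi F) : B.jacquet χ (z * l * z⁻¹) = B.jacquet χ l := by
  classical
  simp only [jacquet, sumOn, map_mul, map_inv]
  refine Finset.sum_equiv (MulAut.conj (B.sec z)⁻¹).toEquiv (fun u => ?_) (fun u _ => ?_)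
  · simp only [Finset.mem_filter, Finset.mem_univ, true_and, MulEquiv.toEquiv_eq_coe, EquivLike.coe_coe,
      MulAut.conj_apply, inv_inv]
    constructor
    · intro hu
      have := B.sec_conj_mem z⁻¹ hu
      rwa [map_inv, inv_inv] at this
    · intro hu
      have := B.sec_conj_mem z hu
      simpa [mul_assoc] using this
  · simp only [MulEquiv.toEquiv_eq_coe, EquivLike.coe_coe, MulAut.conj_apply, inv_inv]
    rw [← hχ _ (B.sec z)⁻¹]
    congr 1
    group

/-- Expansion of the restriction to the Levi factor in products of irreducible characters. -/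
theorem jacquet_expand {χ : GL (Fin n) F → ℂ} (hχ : Cfsg.IsClassFunction (GL (Fin n) F) χ)
    (x : B.Levi F) :
    ∑ s ∈ Fintype.piFinset (fun a => CfsgLib.Char.irrFinset (GL (Fin (B.m a)) F)),
        (∑ l : B.Levi F, B.jacquet χ l * conj (∏ a, s a (l a))) * ∏ a, s a (x a) =
      (Fintype.card (B.Levi F) : ℂ) * B.jacquet χ x := by
  classical
  calc _ = ∑ l : B.Levi F, B.jacquet χ l *
        ∏ a, ∑ θ ∈ CfsgLib.Char.irrFinset (GL (Fin (B.m a)) F), θ (x a) * conj (θ (l a)) := by
        simp only [Finset.sum_mul]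
        rw [Finset.sum_comm]
        refine Finset.sum_congr rfl fun l _ => ?_
        rw [Finset.prod_univ_sum, Finset.mul_sum]
        refine Finset.sum_congr rfl fun s _ => ?_
        rw [Finset.prod_mul_distrib, map_prod]
        ring
    _ = ∑ l : B.Levi F, B.jacquet χ l *
        ((Finset.univ.filter fun z : B.Levi F => z * x * z⁻¹ = l).card : ℂ) := by
        refine Finset.sum_congr rfl fun l _ => ?_
        congr 1
        simp only [sum_irr_mul_conj_eq_card]
        rw [← Nat.cast_prod, ← Fintype.card_piFinset]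
        congr 2
        ext z
        simp only [Fintype.mem_piFinset, Finset.mem_filter, Finset.mem_univ, true_and, funext_iff,
          Pi.mul_apply, Pi.inv_apply]
    _ = ∑ z : B.Levi F, B.jacquet χ (z * x * z⁻¹) := by
        rw [← Finset.sum_fiberwise Finset.univ (fun z : B.Levi F => z * x * z⁻¹)
          fun z => B.jacquet χ (z * x * z⁻¹)]
        refine Finset.sum_congr rfl fun l _ => ?_
        rw [Finset.sum_congr rfl (g := fun _ => B.jacquet χ l)
          fun z hz => by rw [(Finset.mem_filter.1 hz).2], Finset.sum_const, nsmul_eq_mul, mul_comm]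
    _ = _ := by
        rw [Finset.sum_congr rfl fun z _ => jacquet_conj hχ z x, Finset.sum_const, Finset.card_univ,
          nsmul_eq_mul]

/-- The coefficients of the expansion are multiplicities. -/
theorem sum_jacquet_eq (χ : GL (Fin n) F → ℂ) (σ : B.Data F) [Fintype (B.P F)] :
    ∑ l : B.Levi F, B.jacquet χ l * conj (∏ a, σ a (l a)) =
      (Nat.card (B.P F) : ℂ) * Cfsg.classInner (fun p : B.P F => χ p) (theta σ) := by
  classical
  rw [← CfsgLib.Char.sum_eq_card_mul_classInner]
  have h := B.sumOn_split (F := F) (Q := B.P F) (rad_le_parab _) le_rfl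
    fun g => χ g * conj (Cfsg.extendByZero (B.P F) (theta σ) g)
  rw [sumOn_eq_sum, Finset.filter_true_of_mem fun l _ => B.sec_mem l] at h
  simp only [CfsgLib.Char.extendByZero_apply] at h
  rw [h]
  refine Finset.sum_congr rfl fun l _ => ?_
  rw [jacquet, sumOn, sumOn, Finset.sum_mul]
  refine Finset.sum_congr rfl fun u hu => ?_
  obtain ⟨hP, hproj⟩ := B.mem_U_iff.1 (Finset.mem_filter.1 hu).2
  rw [extendByZero_theta σ (mul_mem hP (B.sec_mem l))]
  have : B.proj ⟨u * B.sec l, mul_mem hP (B.sec_mem l)⟩ = l := by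
    have e : (⟨u * B.sec l, mul_mem hP (B.sec_mem l)⟩ : B.P F) = ⟨u, hP⟩ * ⟨_, B.sec_mem l⟩ := rfl
    rw [e, map_mul, hproj, one_mul, B.proj_sec]
  rw [this]

end Blocks

/-- Every irreducible character lies in the induction of irreducible cuspidal data. -/
theorem exists_support {χ : GL (Fin n) F → ℂ} (hχ : Cfsg.IsIrrCharacter (GL (Fin n) F) χ) :
    ∃ (B : Blocks n) (σ : B.Data F), Blocks.Good σ ∧ Cfsg.classInner χ (Blocks.ind σ) ≠ 0 := by
  classical
  have hch := CfsgLib.Char.IsIrrCharacter.isCharacter hχ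
  have hcl := CfsgLib.Char.IsIrrCharacter.isClassFunction hχ
  obtain ⟨S, hS⟩ : ∃ S : Set (Subgroup (GL (Fin n) F)),
      S = {H | ∃ f : Fin n → ℕ, Monotone f ∧ H = rad F f ∧ sumOn H χ ≠ 0} := ⟨_, rfl⟩
  have hne : S.Nonempty := by
    refine ⟨rad F (fun _ : Fin n => (0 : ℕ)), hS ▸ ⟨_, monotone_const, rfl, ?_⟩⟩
    rw [sumOn, Finset.sum_eq_single 1]
    · exact CfsgLib.Char.IsIrrCharacter.apply_one_ne_zero hχ
    · intro g hg hne
      refine absurd (Units.ext (Matrix.ext fun i j => ?_)) hne
      rw [Units.val_one]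
      exact mem_rad.1 (Finset.mem_filter.1 hg).2 i j le_rfl
    · intro h; exact absurd (Finset.mem_filter.2 ⟨Finset.mem_univ _, one_mem _⟩) h
  obtain ⟨H, hH, hmax⟩ := Set.exists_max_image S (fun H => Nat.card H) (Set.toFinite S) hne
  rw [hS] at hH
  obtain ⟨f, hf, rfl, hfne⟩ := hH
  obtain ⟨B, hB⟩ := Blocks.exists_of_monotone hf
  have hU : B.U F = rad F f := by
    ext g
    simp only [mem_rad, hB]
  rw [← hU] at hfne
  haveI : Fintype (B.P F) := Fintype.ofFinite _
  -- the coefficients
  obtain ⟨T, hT⟩ : ∃ T : Finset (B.Data F),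
      T = Fintype.piFinset fun a => CfsgLib.Char.irrFinset (GL (Fin (B.m a)) F) := ⟨_, rfl⟩
  have hTirr : ∀ s ∈ T, ∀ a, Cfsg.IsIrrCharacter (GL (Fin (B.m a)) F) (s a) := fun s hs a => by
    rw [hT] at hs
    exact CfsgLib.Char.mem_irrFinset.1 (Fintype.mem_piFinset.1 hs a)
  have hnat : ∀ s ∈ T, ∃ N : ℕ, Cfsg.classInner (fun p : B.P F => χ p) (Blocks.theta s) = N := fun s hs =>
    CfsgLib.Char.IsCharacter.exists_classInner_eq_natCast' (CfsgLib.Char.IsCharacter.restrict hch _)
      (Blocks.isCharacter_theta fun a => CfsgLib.Char.IsIrrCharacter.isCharacter (hTirr s hs a))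
  choose! N hN using hnat
  have hexp : ∀ x : B.Levi F, (Fintype.card (B.Levi F) : ℂ) * B.jacquet χ x =
      (Nat.card (B.P F) : ℂ) * ∑ s ∈ T, (N s : ℂ) * ∏ a, s a (x a) := fun x => by
    rw [← Blocks.jacquet_expand hcl, ← hT, Finset.mul_sum]
    refine Finset.sum_congr rfl fun s hs => ?_
    rw [Blocks.sum_jacquet_eq, hN s hs, mul_assoc]
  have hone : ∃ s ∈ T, N s ≠ 0 := by
    by_contra! h0
    refine hfne ?_
    have := hexp 1
    rw [Finset.sum_eq_zero fun s hs => by rw [h0 s hs, Nat.cast_zero, zero_mul], mul_zero] at this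
    have h2 := (mul_eq_zero.1 this).resolve_left (by exact_mod_cast Fintype.card_ne_zero)
    simpa [Blocks.jacquet] using h2
  -- maximality makes the components cuspidal
  have hcusp : ∀ s ∈ T, N s ≠ 0 → ∀ a, Cuspidal (s a) := by
    intro s₀ hs₀ hs₀ne a c hc hcm
    obtain ⟨f', hf'⟩ : ∃ f' : Fin n → ℕ, f' = fun i =>
        2 * (B.lab i).val + if B.lab i = a ∧ (B.E ⟨a, ⟨c, hcm⟩⟩).val ≤ i.val then 1 else 0 := ⟨_, rfl⟩
    have hsame : ∀ i j, f' j < f' i → B.lab j ≤ B.lab i := fun i j h => by
      rw [hf'] at h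
      dsimp only at h
      rw [Fin.le_def]
      split_ifs at h <;> omega
    have hmono : Monotone f' := by
      intro i j hij
      have hl := B.lab_mono hij
      rw [hf']
      dsimp only
      rw [Fin.le_def] at hl hij
      split_ifs with h1 h2
      · omega
      · have : B.lab j ≠ a := fun e => h2 ⟨e, by omega⟩
        have := Fin.val_ne_of_ne this
        have := congrArg Fin.val h1.1
        omega
      · omega
      · omega
    have hUW : B.U F ≤ rad F f' := fun g hg => mem_rad.2 fun i j hij => mem_rad.1 hg i j (by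
      rcases lt_or_eq_of_le hij with h | h
      · exact hsame i j h
      · rw [hf'] at h
        dsimp only at h
        rw [Fin.le_def]
        split_ifs at h <;> omega)
    have hWP : rad F f' ≤ B.P F := fun g hg => mem_parab.2 fun i j hij =>
      mem_parab.1 (rad_le_parab _ hg) i j (by
        rw [hf']
        dsimp only
        rw [Fin.lt_def] at hij
        split_ifs <;> omega)
    have hfa : ∀ x : Fin (B.m a), f' (B.E ⟨a, x⟩) = if x.val < c then 2 * a.val else 2 * a.val + 1 := by
      intro x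
      rw [hf']
      dsimp only
      rw [B.lab_E]
      by_cases hx : x.val < c
      · have h := B.inn a x ⟨c, hcm⟩ hx
        rw [Fin.lt_def] at h
        rw [if_neg (fun hh => by omega), if_pos hx, add_zero]
      · have hle : (B.E ⟨a, ⟨c, hcm⟩⟩).val ≤ (B.E ⟨a, x⟩).val := by
          rcases lt_or_eq_of_le (show (⟨c, hcm⟩ : Fin (B.m a)) ≤ x from not_lt.1 hx) with h | h
          · exact (Fin.lt_def.1 (B.inn a _ _ h)).le
          · rw [← h]
        rw [if_pos ⟨rfl, hle⟩, if_neg hx]
    have hfb : ∀ b, b ≠ a → ∀ x : Fin (B.m b), f' (B.E ⟨b, x⟩) = 2 * b.val := fun b hb x => by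
      rw [hf']
      dsimp only
      rw [B.lab_E, if_neg (fun h => hb h.1), add_zero]
    have hzero : sumOn (rad F f') χ = 0 := by
      by_contra h0
      have hle := hmax (rad F f') (hS ▸ ⟨f', hmono, rfl, h0⟩)
      rw [← hU] at hle
      obtain ⟨p, hp⟩ : ∃ p : Fin (B.m a), p.val = 0 := ⟨⟨0, B.pos a⟩, rfl⟩
      have hpq : B.E ⟨a, p⟩ < B.E ⟨a, ⟨c, hcm⟩⟩ := B.inn a _ _ (by rw [Fin.lt_def]; simp only [hp]; exact hc)
      have hmem : root (B.E ⟨a, p⟩) (B.E ⟨a, ⟨c, hcm⟩⟩) hpq.ne (1 : F) ∈ rad F f' :=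
        root_mem_rad hpq.ne (by
          rw [hfa, hfa, if_pos (by omega), if_neg (lt_irrefl _)]
          exact Nat.lt_succ_self _) 1
      have hnot : root (B.E ⟨a, p⟩) (B.E ⟨a, ⟨c, hcm⟩⟩) hpq.ne (1 : F) ∉ B.U F := fun h => by
        have := mem_rad.1 h (B.E ⟨a, p⟩) (B.E ⟨a, ⟨c, hcm⟩⟩) (by rw [B.lab_E, B.lab_E])
        rw [root_apply, if_pos ⟨rfl, rfl⟩, Matrix.one_apply_ne hpq.ne, zero_add] at this
        exact one_ne_zero this
      have heq : B.U F = rad F f' := Subgroup.eq_of_le_of_card_ge hUW hle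
      exact hnot (heq ▸ hmem)
    have hset : (Finset.univ.filter fun l : B.Levi F => B.sec l ∈ rad F f') =
        (Finset.univ.filter fun v : GL (Fin (B.m a)) F => v ∈ rad F (splitLab c)).image (Pi.mulSingle a) := by
      ext l
      simp only [Finset.mem_filter, Finset.mem_univ, true_and, Finset.mem_image]
      constructor
      · intro hl
        refine ⟨l a, mem_rad.2 fun x y hxy => ?_, funext fun b => ?_⟩
        · rw [← B.sec_apply_same, mem_rad.1 hl]
          · simp [Matrix.one_apply]
          · rw [hfa, hfa]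
            simp only [splitLab] at hxy
            split_ifs at hxy ⊢ <;> omega
        · rcases eq_or_ne b a with rfl | hb
          · rw [Pi.mulSingle_eq_same]
          · rw [Pi.mulSingle_eq_of_ne hb]
            refine (Units.ext (Matrix.ext fun x y => ?_)).symm
            rw [← B.sec_apply_same, mem_rad.1 hl _ _ (by rw [hfb b hb, hfb b hb]), Units.val_one]
            simp [Matrix.one_apply]
      · rintro ⟨v, hv, rfl⟩
        refine mem_rad.2 fun i j hij => ?_
        obtain ⟨b, x, rfl⟩ := B.exists_E i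
        obtain ⟨b', y, rfl⟩ := B.exists_E j
        rcases eq_or_ne b b' with rfl | hbb
        · rw [B.sec_apply_same]
          rcases eq_or_ne b a with rfl | hb
          · rw [Pi.mulSingle_eq_same, mem_rad.1 hv x y ?_]
            · simp [Matrix.one_apply]
            · rw [hfa, hfa] at hij
              simp only [splitLab]
              split_ifs at hij ⊢ <;> omega
          · rw [Pi.mulSingle_eq_of_ne hb, Units.val_one]
            simp [Matrix.one_apply]
        · rw [B.sec_apply_ne _ (by rw [B.lab_E, B.lab_E]; exact hbb), Matrix.one_apply_ne]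
          intro he
          exact hbb (congrArg Sigma.fst (B.E.injective he))
    have h1 := B.sumOn_split hUW hWP χ
    rw [hzero, hset, Finset.sum_image fun v _ w _ h => Pi.mulSingle_injective a h] at h1
    have h2 : ∑ v ∈ Finset.univ.filter (fun v : GL (Fin (B.m a)) F => v ∈ rad F (splitLab c)),
        ∑ s ∈ T, (N s : ℂ) * ∏ b, s b ((Pi.mulSingle a v : B.Levi F) b) = 0 := by
      have hP : (Nat.card (B.P F) : ℂ) ≠ 0 := card_ne_zero _
      refine (mul_eq_zero.1 ?_).resolve_left hP
      rw [Finset.mul_sum, Finset.sum_congr rfl fun v _ => (hexp (Pi.mulSingle a v)).symm, ← Finset.mul_sum]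
      simp only [Blocks.jacquet]
      rw [← h1, mul_zero]
    rw [Finset.sum_comm] at h2
    have hterm : ∀ s ∈ T, ∃ D : ℕ,
        ∑ v ∈ Finset.univ.filter (fun v : GL (Fin (B.m a)) F => v ∈ rad F (splitLab c)),
          (N s : ℂ) * ∏ b, s b ((Pi.mulSingle a v : B.Levi F) b) = (D : ℂ) ∧
        (D = 0 → N s = 0 ∨ sumOn (rad F (splitLab c)) (s a) = 0) := by
      intro s hs
      have hdeg : ∀ b, ∃ d : ℕ, 0 < d ∧ s b 1 = d := fun b =>
        CfsgLib.Char.IsIrrCharacter.exists_degree (hTirr s hs b)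
      choose d hd0 hd using hdeg
      obtain ⟨e, he⟩ := exists_sumOn_eq (CfsgLib.Char.IsIrrCharacter.isCharacter (hTirr s hs a))
        (rad F (splitLab c))
      refine ⟨N s * ((∏ b ∈ Finset.univ.erase a, d b) * (Nat.card (rad F (splitLab (n := B.m a) c)) * e)),
        ?_, fun hD => ?_⟩
      · push_cast
        rw [← he, sumOn, Finset.mul_sum, Finset.mul_sum]
        refine Finset.sum_congr rfl fun v _ => ?_
        rw [← Finset.mul_prod_erase _ _ (Finset.mem_univ a), Pi.mulSingle_eq_same,
          Finset.prod_congr rfl (g := fun b => (d b : ℂ))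
            fun b hb => by rw [Pi.mulSingle_eq_of_ne (Finset.mem_erase.1 hb).1, hd b]]
        ring
      · rcases mul_eq_zero.1 hD with h | h
        · exact Or.inl h
        · right
          have hprod : (∏ b ∈ Finset.univ.erase a, d b) ≠ 0 :=
            Finset.prod_ne_zero_iff.2 fun b _ => (hd0 b).ne'
          have h' := (mul_eq_zero.1 h).resolve_left hprod
          rw [he, ← Nat.cast_mul, h', Nat.cast_zero]
    choose! D hD hD0 using hterm
    rw [Finset.sum_congr rfl hD, ← Nat.cast_sum, Nat.cast_eq_zero] at h2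
    exact (hD0 s₀ hs₀ (Finset.sum_eq_zero_iff.1 h2 s₀ hs₀)).resolve_left hs₀ne
  obtain ⟨s, hs, hsne⟩ := hone
  refine ⟨B, s, fun a => ⟨hTirr s hs a, hcusp s hs hsne a⟩, ?_⟩
  rw [Blocks.ind, CfsgLib.Char.classInner_indFun_right hcl, hN s hs]
  exact_mod_cast hsne

end CfsgLib.GLCusp
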